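import Groth.Agent.DimOne.Ga2

/-!
# The coordinate ring of a unipotent group of dimension one is generated by a primitive element
-/

set_option autoImplicit false

universe u

open TensorProduct WithConv

noncomputable section

namespace Groth.Agent.DimOne

open Groth.Agent.ComodLib Groth.Agent.LieKol Groth.Agent.GaChar

variable {k : Type u} [Field k] {A : Type u} [CommRing A] [HopfAlgebra k A]

/-- The deviation lands in the square of any subspace containing the previous wedge power. -/
theorem dev_mem_range [Coalgebra.IsCocomm k A] (U : Submodule k A) (h1 : (1 : A) ∈ U) {r : ℕ}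
    (hU : CoradFil.wedge (Submodule.span k {(1 : A)}) r ≤ U) {a : A}
    (ha : a ∈ CoradFil.wedge (Submodule.span k {(1 : A)}) (r + 1)) :
    dev k A a ∈ LinearMap.range (TensorProduct.map U.subtype U.subtype) := by
  have ha' : Coalgebra.comul (R := k) a ∈
      LinearMap.range ((CoradFil.wedge (Submodule.span k {(1 : A)}) r).subtype.rTensor A) ⊔
        LinearMap.range ((Submodule.span k {(1 : A)}).subtype.lTensor A) := ha
  obtain ⟨p, ⟨p', rfl⟩, q, ⟨q', rfl⟩, hpq⟩ := Submodule.mem_sup.1 ha'
  obtain ⟨v, hv⟩ : ∃ v : A, (Submodule.span k {(1 : A)}).subtype.lTensor A q' = v ⊗ₜ[k] (1 : A) := by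
    clear hpq
    induction q' using TensorProduct.induction_on with
    | zero => exact ⟨0, by simp⟩
    | tmul x y =>
      obtain ⟨c, hc⟩ := Submodule.mem_span_singleton.1 y.2
      refine ⟨c • x, ?_⟩
      rw [LinearMap.lTensor_tmul, Submodule.subtype_apply, ← hc, TensorProduct.smul_tmul]
    | add x y hx hy =>
      obtain ⟨u, hu⟩ := hx
      obtain ⟨w, hw⟩ := hy
      exact ⟨u + w, by rw [map_add, hu, hw, TensorProduct.add_tmul]⟩
  let P : A ⊗[k] A := (CoradFil.wedge (Submodule.span k {(1 : A)}) r).subtype.rTensor A p'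
  let X : A := TensorProduct.rid k A ((Coalgebra.counit (R := k) (A := A)).lTensor A P)
  have hXa : X + v = a := by
    have e := congrArg (fun z => TensorProduct.rid k A ((Coalgebra.counit (R := k) (A := A)).lTensor A z)) hpq
    simp only [hv, map_add, LinearMap.lTensor_tmul, TensorProduct.rid_tmul, Bialgebra.counit_one, one_smul,
      Coalgebra.lTensor_counit_comul] at e
    exact e
  have hP : P ∈ LinearMap.range (U.subtype.rTensor A) := by
    refine ⟨(Submodule.inclusion hU).rTensor A p', ?_⟩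
    rw [← LinearMap.comp_apply, ← LinearMap.rTensor_comp]
    rfl
  have hXU : X ∈ U := by
    obtain ⟨w, hw⟩ := hP
    show TensorProduct.rid k A ((Coalgebra.counit (R := k) (A := A)).lTensor A P) ∈ U
    rw [← hw]
    clear hw
    induction w using TensorProduct.induction_on with
    | zero => simp
    | tmul x y =>
      rw [LinearMap.rTensor_tmul, LinearMap.lTensor_tmul, TensorProduct.rid_tmul]
      exact Submodule.smul_mem _ _ x.2
    | add x y hx hy => simp only [map_add]; exact Submodule.add_mem _ hx hy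
  have hr : dev k A a ∈ LinearMap.range (U.subtype.rTensor A) := by
    have e : dev k A a = P - X ⊗ₜ[k] 1 - (1 : A) ⊗ₜ[k] a := by
      rw [dev_apply, ← hpq, hv, show v = a - X from eq_sub_of_add_eq' hXa, TensorProduct.sub_tmul]
      abel
    rw [e]
    exact Submodule.sub_mem _ (Submodule.sub_mem _ hP ⟨(⟨X, hXU⟩ : U) ⊗ₜ[k] 1, rfl⟩) ⟨(⟨1, h1⟩ : U) ⊗ₜ[k] a, rfl⟩
  obtain ⟨w, hw⟩ := hr
  have hl : U.mkQ.lTensor A (dev k A a) = 0 := by
    have hc : TensorProduct.comm k A A (dev k A a) = dev k A a := by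
      rw [dev_apply, map_sub, map_sub, TensorProduct.comm_tmul, TensorProduct.comm_tmul,
        Coalgebra.comm_comul (R := k)]
      abel
    rw [← hc, ← hw]
    clear hw hc
    induction w using TensorProduct.induction_on with
    | zero => simp
    | tmul x y => simp [(Submodule.Quotient.mk_eq_zero U).2 x.2]
    | add x y hx hy => simp only [map_add, hx, hy, add_zero]
  rw [← hw] at hl
  have h2 : U.mkQ.lTensor U w = 0 := by
    apply Module.Flat.rTensor_preserves_injective_linearMap (M := A ⧸ U) U.subtype U.injective_subtype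
    rw [map_zero, ← hl]
    rw [← LinearMap.comp_apply, ← LinearMap.comp_apply, LinearMap.rTensor_comp_lTensor, LinearMap.lTensor_comp_rTensor]
  obtain ⟨w', hw'⟩ := ((lTensor_exact U (LinearMap.exact_subtype_mkQ U) U.mkQ_surjective) w).1 h2
  refine ⟨w', ?_⟩
  rw [← hw, ← hw', ← LinearMap.comp_apply, LinearMap.rTensor_comp_lTensor]

variable [IsAlgClosed k] [Algebra.FiniteType k A]

variable (k A) in
/-- The subalgebra generated by the primitive elements. -/
def primAlg : Subalgebra k A := Algebra.adjoin k (prim k A : Set A)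

theorem adjoin_le_of_mem {z v : A} (h : z ∈ Algebra.adjoin k {v}) : Algebra.adjoin k {z} ≤ Algebra.adjoin k {v} :=
  Algebra.adjoin_le (Set.singleton_subset_iff.2 h)

theorem exists_prim_of_mem (hd : IsDimOne A) {u : A} (hu : u ∈ primAlg k A) :
    ∃ z ∈ prim k A, u ∈ Algebra.adjoin k {z} := by
  induction hu using Algebra.adjoin_induction with
  | mem x hx => exact ⟨x, hx, Algebra.self_mem_adjoin_singleton k x⟩
  | algebraMap r => exact ⟨0, Submodule.zero_mem _, Subalgebra.algebraMap_mem _ r⟩
  | add x y _ _ hx hy =>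
    obtain ⟨z₁, h₁, hx⟩ := hx
    obtain ⟨z₂, h₂, hy⟩ := hy
    obtain ⟨z, hz, hz₁, hz₂⟩ := exists_common hd h₁ h₂
    exact ⟨z, hz, Subalgebra.add_mem _ (adjoin_le_of_mem hz₁ hx) (adjoin_le_of_mem hz₂ hy)⟩
  | mul x y _ _ hx hy =>
    obtain ⟨z₁, h₁, hx⟩ := hx
    obtain ⟨z₂, h₂, hy⟩ := hy
    obtain ⟨z, hz, hz₁, hz₂⟩ := exists_common hd h₁ h₂
    exact ⟨z, hz, Subalgebra.mul_mem _ (adjoin_le_of_mem hz₁ hx) (adjoin_le_of_mem hz₂ hy)⟩

theorem exists_poly_of_mem_adjoin {z u : A} (hu : u ∈ Algebra.adjoin k {z}) :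
    ∃ P : Polynomial k, Polynomial.aeval z P = u := by
  rw [Algebra.adjoin_singleton_eq_range_aeval] at hu
  exact hu

theorem exists_poly_presentation (hd : IsDimOne A)
    (w : (primAlg k A).toSubmodule ⊗[k] (primAlg k A).toSubmodule) :
    ∃ z ∈ prim k A, ∃ F : MvPolynomial (Fin 2) k, ∀ g h : WithConv (A →ₐ[k] k),
      ev2 g h (TensorProduct.map (primAlg k A).toSubmodule.subtype (primAlg k A).toSubmodule.subtype w) =
        MvPolynomial.eval ![g.ofConv z, h.ofConv z] F := by
  induction w using TensorProduct.induction_on with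
  | zero => exact ⟨0, Submodule.zero_mem _, 0, fun g h => by simp⟩
  | tmul x y =>
    obtain ⟨z₁, h₁, hx⟩ := exists_prim_of_mem hd x.2
    obtain ⟨z₂, h₂, hy⟩ := exists_prim_of_mem hd y.2
    obtain ⟨z, hz, hz₁, hz₂⟩ := exists_common hd h₁ h₂
    obtain ⟨P, hP⟩ := exists_poly_of_mem_adjoin (adjoin_le_of_mem hz₁ hx)
    obtain ⟨Q, hQ⟩ := exists_poly_of_mem_adjoin (adjoin_le_of_mem hz₂ hy)
    refine ⟨z, hz, Polynomial.aeval (MvPolynomial.X 0) P * Polynomial.aeval (MvPolynomial.X 1) Q, fun g h => ?_⟩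
    rw [TensorProduct.map_tmul, ev2_tmul, Submodule.subtype_apply, Submodule.subtype_apply, ← hP, ← hQ,
      eval_aeval, eval_aeval, map_mul]
    congr 1
    · show _ = MvPolynomial.eval ![g.ofConv z, h.ofConv z] (Polynomial.aeval (MvPolynomial.X 0) P)
      rw [← MvPolynomial.aeval_eq_eval, ← Polynomial.aeval_algHom_apply]
      simp [Polynomial.coe_aeval_eq_eval]
    · show _ = MvPolynomial.eval ![g.ofConv z, h.ofConv z] (Polynomial.aeval (MvPolynomial.X 1) Q)
      rw [← MvPolynomial.aeval_eq_eval, ← Polynomial.aeval_algHom_apply]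
      simp [Polynomial.coe_aeval_eq_eval]
  | add x y hx hy =>
    obtain ⟨z₁, h₁, F₁, hx⟩ := hx
    obtain ⟨z₂, h₂, F₂, hy⟩ := hy
    obtain ⟨z, hz, hz₁, hz₂⟩ := exists_common hd h₁ h₂
    obtain ⟨P, hP⟩ := exists_poly_of_mem_adjoin hz₁
    obtain ⟨Q, hQ⟩ := exists_poly_of_mem_adjoin hz₂
    let sub : Polynomial k → MvPolynomial (Fin 2) k →ₐ[k] MvPolynomial (Fin 2) k := fun P =>
      MvPolynomial.aeval fun i => Polynomial.aeval (MvPolynomial.X i : MvPolynomial (Fin 2) k) P
    have hsub : ∀ (P : Polynomial k) (F : MvPolynomial (Fin 2) k) (v : Fin 2 → k),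
        MvPolynomial.eval v (sub P F) = MvPolynomial.eval (fun i => P.eval (v i)) F := fun P F v => by
      rw [← MvPolynomial.aeval_eq_eval, ← MvPolynomial.aeval_eq_eval, MvPolynomial.comp_aeval_apply]
      congr 2
      funext i
      rw [← Polynomial.aeval_algHom_apply, MvPolynomial.aeval_X, Polynomial.coe_aeval_eq_eval]
    have hvec : ∀ (P : Polynomial k) (g h : WithConv (A →ₐ[k] k)),
        (fun i => P.eval (![g.ofConv z, h.ofConv z] i)) =
          ![g.ofConv (Polynomial.aeval z P), h.ofConv (Polynomial.aeval z P)] := fun P g h => by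
      funext i
      fin_cases i <;> simp [eval_aeval]
    refine ⟨z, hz, sub P F₁ + sub Q F₂, fun g h => ?_⟩
    rw [map_add, map_add, map_add, hx, hy, hsub, hsub, hvec, hvec, hP, hQ]

theorem infinite_values (hd : IsDimOne A) {z : A} (hz : z ∈ prim k A) (hz0 : z ≠ 0) :
    (Set.range fun g : WithConv (A →ₐ[k] k) => g.ofConv z).Infinite := by
  haveI := hd.isDomain
  intro hfin
  refine hd.infinite_pts (k := k) ?_
  have hcov : (Set.univ : Set (WithConv (A →ₐ[k] k))) ⊆
      ⋃ c ∈ Set.range fun g : WithConv (A →ₐ[k] k) => g.ofConv z, {g | g.ofConv (z - algebraMap k A c) = 0} :=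
    fun g _ => Set.mem_biUnion ⟨g, rfl⟩ (by simp)
  refine Set.Finite.subset (hfin.biUnion fun c _ => hd.finite_zeros fun e => hz0 ?_) hcov
  exact prim_eq_zero_of_mem_range hz ⟨c, (sub_eq_zero.1 e).symm⟩

/-- The symmetric cocycle attached to an element. -/
theorem isCoc_of_eval (hd : IsDimOne A) {z : A} (hz : z ∈ prim k A) (hz0 : z ≠ 0) {a : A}
    {F : MvPolynomial (Fin 2) k} (hF : ∀ g h : WithConv (A →ₐ[k] k),
      (g * h).ofConv a - g.ofConv a - h.ofConv a = MvPolynomial.eval ![g.ofConv z, h.ofConv z] F) :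
    IsCoc F := by
  let S : Set k := Set.range fun g : WithConv (A →ₐ[k] k) => g.ofConv z
  have hS : S.Infinite := infinite_values hd hz hz0
  refine ⟨MvPolynomial.funext_set (fun _ : Fin 2 => S) (fun _ => hS) fun x hx => ?_,
    MvPolynomial.funext_set (fun _ : Fin 3 => S) (fun _ => hS) fun x hx => ?_⟩
  · obtain ⟨g, hg⟩ := hx 0 trivial
    obtain ⟨h, hh⟩ := hx 1 trivial
    rw [← MvPolynomial.aeval_eq_eval, MvPolynomial.comp_aeval_apply, MvPolynomial.aeval_eq_eval]
    rw [show (fun i => (MvPolynomial.aeval x) (![MvPolynomial.X 1, MvPolynomial.X 0] i)) = ![h.ofConv z, g.ofConv z] by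
      funext i; fin_cases i <;> simp [← hg, ← hh],
      show x = ![g.ofConv z, h.ofConv z] by funext i; fin_cases i <;> simp [← hg, ← hh], MvPolynomial.aeval_eq_eval,
      ← hF, ← hF, hd.comm_pts g h]
    ring
  · obtain ⟨g, hg⟩ := hx 0 trivial
    obtain ⟨h, hh⟩ := hx 1 trivial
    obtain ⟨l, hl⟩ := hx 2 trivial
    rw [coc_apply, map_zero, map_sub, map_sub, map_add]
    simp only [← MvPolynomial.aeval_eq_eval, MvPolynomial.comp_aeval_apply]
    simp only [MvPolynomial.aeval_eq_eval]
    rw [show (fun i => (MvPolynomial.eval x) (![MvPolynomial.X 0, MvPolynomial.X 1 + MvPolynomial.X 2] i)) =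
        ![g.ofConv z, (h * l).ofConv z] by funext i; fin_cases i <;> simp [← hg, ← hh, ← hl, prim_mul_pt hz],
      show (fun i => (MvPolynomial.eval x) (![MvPolynomial.X 1, MvPolynomial.X 2] i)) =
        ![h.ofConv z, l.ofConv z] by funext i; fin_cases i <;> simp [← hh, ← hl],
      show (fun i => (MvPolynomial.eval x) (![MvPolynomial.X 0 + MvPolynomial.X 1, MvPolynomial.X 2] i)) =
        ![(g * h).ofConv z, l.ofConv z] by funext i; fin_cases i <;> simp [← hg, ← hh, ← hl, prim_mul_pt hz],
      show (fun i => (MvPolynomial.eval x) (![MvPolynomial.X 0, MvPolynomial.X 1] i)) =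
        ![g.ofConv z, h.ofConv z] by funext i; fin_cases i <;> simp [← hg, ← hh],
      ← hF, ← hF, ← hF, ← hF, mul_assoc]
    ring

theorem eval_cob (G : Polynomial k) (s t : k) :
    MvPolynomial.eval ![s, t] (cob G) = G.eval (s + t) - G.eval s - G.eval t := by
  rw [← MvPolynomial.aeval_eq_eval, cob, map_sub, map_sub, ← Polynomial.aeval_algHom_apply,
    ← Polynomial.aeval_algHom_apply, ← Polynomial.aeval_algHom_apply]
  simp [Polynomial.coe_aeval_eq_eval]

/-- An element with deviation in the algebra of primitives lies in that algebra. -/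
theorem mem_primAlg_of_dev (hd : IsDimOne A) (hU : CoradFil.Exh (Submodule.span k {(1 : A)})) {x₀ : A}
    (hx₀ : x₀ ∈ prim k A) (hx₀0 : x₀ ≠ 0) {a : A}
    (ha : dev k A a ∈ LinearMap.range
      (TensorProduct.map (primAlg k A).toSubmodule.subtype (primAlg k A).toSubmodule.subtype)) :
    a ∈ primAlg k A := by
  haveI := hd.isDomain
  obtain ⟨w, hw⟩ := ha
  obtain ⟨z₁, hz₁, F₁, hF₁⟩ := exists_poly_presentation hd w
  obtain ⟨z, hz, hz₁z, hx₀z⟩ := exists_common hd hz₁ hx₀
  have hz0 : z ≠ 0 := fun e => by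
    obtain ⟨P, hP⟩ := exists_poly_of_mem_adjoin hx₀z
    refine hx₀0 (prim_eq_zero_of_mem_range hx₀ ⟨P.eval 0, ?_⟩)
    rw [← hP, e, ← map_zero (algebraMap k A), Polynomial.aeval_algebraMap_apply, Polynomial.coe_aeval_eq_eval]
  obtain ⟨P, hP⟩ := exists_poly_of_mem_adjoin hz₁z
  let F : MvPolynomial (Fin 2) k :=
    MvPolynomial.aeval (fun i => Polynomial.aeval (MvPolynomial.X i : MvPolynomial (Fin 2) k) P) F₁
  have hF : ∀ g h : WithConv (A →ₐ[k] k),
      (g * h).ofConv a - g.ofConv a - h.ofConv a = MvPolynomial.eval ![g.ofConv z, h.ofConv z] F := by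
    intro g h
    rw [← ev2_dev, ← hw, hF₁, ← MvPolynomial.aeval_eq_eval, ← MvPolynomial.aeval_eq_eval, MvPolynomial.comp_aeval_apply]
    congr 2
    funext i
    rw [← Polynomial.aeval_algHom_apply, MvPolynomial.aeval_X, Polynomial.coe_aeval_eq_eval]
    fin_cases i <;> simp [← hP, eval_aeval]
  have hcoc := isCoc_of_eval hd hz hz0 hF
  suffices h : ∃ G : Polynomial k, ∀ g h : WithConv (A →ₐ[k] k),
      (g * h).ofConv a - g.ofConv a - h.ofConv a = MvPolynomial.eval ![g.ofConv z, h.ofConv z] (cob G) by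
    obtain ⟨G, hG⟩ := h
    have hp : a - Polynomial.aeval z G ∈ prim k A := (mem_prim_iff_pts (k := k)).2 fun g h => by
      have := hG g h
      rw [eval_cob, ← prim_mul_pt hz] at this
      simp only [map_sub, eval_aeval]
      linear_combination this
    rw [← sub_add_cancel a (Polynomial.aeval z G)]
    refine Subalgebra.add_mem _ (Algebra.subset_adjoin hp) ?_
    exact Algebra.adjoin_mono (Set.singleton_subset_iff.2 hz) (Polynomial.aeval_mem_adjoin_singleton k z)
  obtain ⟨q, hq⟩ := ExpChar.exists k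
  cases hq with
  | zero =>
    obtain ⟨G, hG⟩ := isCoc_charZero hcoc
    exact ⟨G, hG ▸ hF⟩
  | prime hq =>
    haveI : Fact q.Prime := ⟨hq⟩
    obtain ⟨G, N, r, hFeq⟩ := (symmetricCocycle_iff q F).1 hcoc
    refine ⟨G, fun g h => ?_⟩
    suffices hr : ∀ i ∈ Finset.range N, r i = 0 by
      rw [hF, hFeq, Finset.sum_eq_zero fun i hi => by rw [hr i hi, map_zero, zero_mul], add_zero]
    let Q : Polynomial k := ∑ i ∈ Finset.range N, Polynomial.C (r i) * Polynomial.X ^ q ^ (i + 1)
    have hQ : Q = 0 := by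
      refine Polynomial.eq_zero_of_infinite_isRoot Q ((infinite_values hd hz hz0).mono ?_)
      rintro _ ⟨g, rfl⟩
      show Q.eval (g.ofConv z) = 0
      let a' : A := a - Polynomial.aeval z G
      have step : ∀ g h : WithConv (A →ₐ[k] k), (g * h).ofConv a' = g.ofConv a' + h.ofConv a' +
          ∑ i ∈ Finset.range N, r i * MvPolynomial.eval ![g.ofConv z, h.ofConv z] (twS q i) := by
        intro g h
        have := hF g h
        rw [hFeq, map_add, eval_cob, ← prim_mul_pt hz, map_sum] at this
        simp only [map_mul, MvPolynomial.eval_C] at this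
        simp only [a', map_sub, eval_aeval]
        linear_combination this
      have hn : ∀ n : ℕ, (g ^ n).ofConv a' = (1 : WithConv (A →ₐ[k] k)).ofConv a' + n * g.ofConv a' +
          ∑ j ∈ Finset.range n,
            ∑ i ∈ Finset.range N, r i * MvPolynomial.eval ![(j : k) * g.ofConv z, g.ofConv z] (twS q i) := by
        intro n
        induction n with
        | zero => simp
        | succ n ih =>
          rw [pow_succ, step, ih, prim_pow_pt hz, Finset.sum_range_succ, Nat.cast_succ]
          ring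
      have hq' := hn q
      rw [hd.pow_eq_one hU, CharP.cast_eq_zero, zero_mul, add_zero, left_eq_add, Finset.sum_comm] at hq'
      simp only [← Finset.mul_sum, sum_twS_eval] at hq'
      simp only [Q, Polynomial.eval_finsetSum, Polynomial.eval_mul, Polynomial.eval_C, Polynomial.eval_pow,
        Polynomial.eval_X]
      simp only [mul_neg, Finset.sum_neg_distrib, neg_eq_zero] at hq'
      exact hq'
    intro i hi
    have := congrArg (fun P => Polynomial.coeff P (q ^ (i + 1))) hQ
    simp only [Q, Polynomial.finsetSum_coeff, Polynomial.coeff_C_mul, Polynomial.coeff_X_pow, mul_ite, mul_one,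
      mul_zero, Polynomial.coeff_zero] at this
    rwa [Finset.sum_eq_single i (fun j _ hji => if_neg fun e => hji (by
      have := Nat.pow_right_injective hq.two_le e; omega)) (fun h => absurd hi h), if_pos rfl] at this

/-- A connected group of dimension one without characters is `𝔾ₐ`. -/
theorem IsDimOne.nonempty_Ga (hd : IsDimOne A) (hgl : ∀ g : A, IsGroupLikeElem k g → g = 1) :
    Nonempty (A ≃ₐc[k] SymmetricAlgebra k k) := by
  classical
  haveI := hd.isDomain
  haveI : Coalgebra.IsCocomm k A := hd.isCocomm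
  have hU := exh_of_no_groupLike (k := k) (A := A) hgl
  obtain ⟨t, ht⟩ : ∃ t : A, t ∉ Submodule.span k {(1 : A)} := by
    by_contra hall
    push Not at hall
    refine hd.infinite_pts (k := k) (Set.Subsingleton.finite fun g _ g' _ => WithConv.ext (AlgHom.ext fun a => ?_))
    obtain ⟨c, rfl⟩ := Submodule.mem_span_singleton.1 (hall a)
    simp
  obtain ⟨x₀, hx₀0, hx₀'⟩ := UniPrim.exists_primitive hU ht
  have hx₀ : x₀ ∈ prim k A := mem_prim.2 hx₀'
  have hall : ∀ r, CoradFil.wedge (Submodule.span k {(1 : A)}) r ≤ (primAlg k A).toSubmodule := by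
    intro r
    induction r with
    | zero =>
      exact (Submodule.span_le (R := k)).2 (Set.singleton_subset_iff.2 (Subalgebra.one_mem (primAlg k A)))
    | succ r ih =>
      exact fun a ha => mem_primAlg_of_dev hd hU hx₀ hx₀0
        (dev_mem_range _ (Subalgebra.one_mem (primAlg k A)) ih ha)
  obtain ⟨s, hs⟩ := (Algebra.FiniteType.out : (⊤ : Subalgebra k A).FG)
  have key : ∀ s : Finset A, ∃ z ∈ prim k A, x₀ ∈ Algebra.adjoin k {z} ∧ ↑s ⊆ (Algebra.adjoin k {z} : Set A) := by
    intro s
    induction s using Finset.induction with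
    | empty => exact ⟨x₀, hx₀, Algebra.self_mem_adjoin_singleton k x₀, by simp⟩
    | insert b s _ ih =>
      obtain ⟨z₁, hz₁, hx, hs⟩ := ih
      obtain ⟨r, hr⟩ := hU b
      obtain ⟨z₂, hz₂, hb⟩ := exists_prim_of_mem hd (hall r hr)
      obtain ⟨z, hz, h1, h2⟩ := exists_common hd hz₁ hz₂
      refine ⟨z, hz, adjoin_le_of_mem h1 hx, ?_⟩
      rw [Finset.coe_insert, Set.insert_subset_iff]
      exact ⟨adjoin_le_of_mem h2 hb, fun y hy => adjoin_le_of_mem h1 (hs hy)⟩
  obtain ⟨z, hz, hx₀z, hsz⟩ := key s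
  have htop : Algebra.adjoin k {z} = (⊤ : Subalgebra k A) := top_le_iff.1 (hs ▸ Algebra.adjoin_le hsz)
  have hz0 : z ≠ 0 := fun e => by
    obtain ⟨P, hP⟩ := exists_poly_of_mem_adjoin hx₀z
    refine hx₀0 (prim_eq_zero_of_mem_range hx₀ ⟨P.eval 0, ?_⟩)
    rw [← hP, e, ← map_zero (algebraMap k A), Polynomial.aeval_algebraMap_apply, Polynomial.coe_aeval_eq_eval]
  let L : SymmetricAlgebra k k →ₐ[k] A := SymmetricAlgebra.lift (LinearMap.toSpanSingleton k A z)
  have hLι : L (SymmetricAlgebra.ι k k 1) = z := by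
    rw [show L (SymmetricAlgebra.ι k k 1) = LinearMap.toSpanSingleton k A z 1 from SymmetricAlgebra.lift_ι_apply _ _,
      LinearMap.toSpanSingleton_apply, one_smul]
  let e : SymmetricAlgebra k k ≃ₐ[k] MvPolynomial Unit k :=
    SymmetricAlgebra.equivMvPolynomial (Module.Basis.singleton Unit k)
  have hLe : L.comp e.symm.toAlgHom = MvPolynomial.aeval fun _ => z := MvPolynomial.algHom_ext fun i => by
    show L (e.symm (MvPolynomial.X i)) = _
    rw [SymmetricAlgebra.equivMvPolynomial_symm_X, Module.Basis.singleton_apply, hLι, MvPolynomial.aeval_X]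
  have hLinj : Function.Injective L := by
    have hind : AlgebraicIndependent k (fun _ : Unit => z) :=
      (algebraicIndependent_unique_type_iff).2 fun halg => hz0
        (prim_eq_zero_of_mem_range hz (mem_range_of_isAlgebraic halg))
    intro x y hxy
    refine e.injective (hind ?_)
    show MvPolynomial.aeval (fun _ => z) (e x) = MvPolynomial.aeval (fun _ => z) (e y)
    rw [← hLe]
    show L (e.symm (e x)) = L (e.symm (e y))
    rw [e.symm_apply_apply, e.symm_apply_apply, hxy]
  have hLsurj : Function.Surjective L := by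
    rw [← AlgHom.range_eq_top, ← top_le_iff, ← htop]
    exact Algebra.adjoin_le (Set.singleton_subset_iff.2 ⟨_, hLι⟩)
  let B : SymmetricAlgebra k k →ₐc[k] A := BialgHom.ofAlgHom L
    (by
      ext
      show Coalgebra.counit (R := k) (L (SymmetricAlgebra.ι k k 1)) = Coalgebra.counit (R := k) (SymmetricAlgebra.ι k k 1)
      rw [hLι, SymmetricAlgebra.counit_ι, ← one_pt, prim_one_pt hz])
    (by
      ext
      show (Algebra.TensorProduct.map L L) (Coalgebra.comul (R := k) (SymmetricAlgebra.ι k k 1)) =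
        Coalgebra.comul (R := k) (L (SymmetricAlgebra.ι k k 1))
      rw [SymmetricAlgebra.comul_ι, map_add, Algebra.TensorProduct.map_tmul, Algebra.TensorProduct.map_tmul,
        map_one L, hLι]
      exact (mem_prim.1 hz).symm)
  exact ⟨(BialgEquiv.ofBijective B ⟨hLinj, hLsurj⟩).symm⟩

end Groth.Agent.DimOne
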