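import Mathlib.Algebra.Polynomial.Taylor
import Mathlib.Algebra.MvPolynomial.Funext
import Mathlib.Algebra.CharP.Lemmas
import Mathlib.Algebra.CharP.Algebra
import Mathlib.RingTheory.MvPolynomial.Basic
import Mathlib.Data.Nat.Choose.Lucas
import Mathlib.FieldTheory.IsAlgClosed.Basic

/-!
# Additive polynomials
-/

set_option autoImplicit false

universe u

noncomputable section

namespace Groth.Agent.DimOne

variable {k : Type u} [Field k]

/-- A polynomial which is additive as a function. -/
def AddFun (f : Polynomial k) : Prop := ∀ a b : k, f.eval (a + b) = f.eval a + f.eval b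

theorem AddFun.eval_zero {f : Polynomial k} (hf : AddFun f) : f.eval 0 = 0 := by
  have h := hf 0 0
  rw [add_zero] at h
  exact left_eq_add.1 h

theorem AddFun.sub {f g : Polynomial k} (hf : AddFun f) (hg : AddFun g) : AddFun (f - g) := fun a b => by
  simp only [Polynomial.eval_sub, hf a b, hg a b]
  ring

theorem AddFun.natDegree_pos {f : Polynomial k} (hf : AddFun f) (h0 : f ≠ 0) : 0 < f.natDegree := by
  refine Nat.pos_of_ne_zero fun h => h0 ?_
  rw [Polynomial.eq_C_of_natDegree_eq_zero h, Polynomial.coeff_zero_eq_eval_zero, hf.eval_zero, map_zero]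

theorem eq_pow_of_choose (q : ℕ) [hq : ExpChar k q] {n : ℕ} (hn : 0 < n)
    (h : ∀ i, 0 < i → i < n → (n.choose i : k) = 0) : ∃ m, n = q ^ m := by
  cases hq with
  | zero =>
    refine ⟨0, ?_⟩
    rw [pow_zero]
    by_contra hn1
    have h1 := h 1 one_pos (by omega)
    rw [Nat.choose_one_right, Nat.cast_eq_zero] at h1
    omega
  | prime hp =>
    haveI : Fact q.Prime := ⟨hp⟩
    refine ⟨_, Choose.eq_pow_multiplicity_of_choose_modEq_zero_nat hn fun i hi => ?_⟩
    rw [Finset.mem_Icc] at hi
    exact Nat.modEq_zero_iff_dvd.2 ((CharP.cast_eq_zero_iff k q _).1 (h i (by omega) (by omega)))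

theorem AddFun.natDegree_eq_pow [Infinite k] (q : ℕ) [ExpChar k q] {f : Polynomial k} (hf : AddFun f) (h0 : f ≠ 0) :
    ∃ m, f.natDegree = q ^ m := by
  refine eq_pow_of_choose (k := k) q (hf.natDegree_pos h0) fun i hi hin => ?_
  have hc : Polynomial.hasseDeriv i f = Polynomial.C (f.coeff i) := by
    refine Polynomial.funext fun b => ?_
    rw [Polynomial.eval_C, ← Polynomial.taylor_coeff,
      show Polynomial.taylor b f = f + Polynomial.C (f.eval b) from Polynomial.funext fun c => by
        rw [Polynomial.taylor_eval, Polynomial.eval_add, Polynomial.eval_C, hf],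
      Polynomial.coeff_add, Polynomial.coeff_C_ne_zero hi.ne', add_zero]
  have h1 := congrArg (fun P => Polynomial.coeff P (f.natDegree - i)) hc
  simp only [Polynomial.hasseDeriv_coeff, Polynomial.coeff_C_ne_zero (show f.natDegree - i ≠ 0 by omega),
    Nat.sub_add_cancel hin.le] at h1
  exact (mul_eq_zero.1 h1).resolve_right fun e => h0 (Polynomial.leadingCoeff_eq_zero.1 e)

section Rel

open MvPolynomial

/-- A translation lowers the total degree of a polynomial after subtracting the polynomial. -/
theorem shift_sub_mem (v : Fin 2 → k) {f : MvPolynomial (Fin 2) k} {d : ℕ} (hf : f.totalDegree ≤ d + 1) :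
    (aeval (fun i => X i + C (v i)) f - f).totalDegree ≤ d := by
  classical
  let τ : MvPolynomial (Fin 2) k →ₐ[k] MvPolynomial (Fin 2) k := aeval fun i => X i + C (v i)
  show (τ f - f).totalDegree ≤ d
  have key : ∀ (n : ℕ) (m : Fin 2 →₀ ℕ), (m.sum fun _ e => e) ≤ n + 1 →
      (τ (monomial m 1) - monomial m 1).totalDegree ≤ n := by
    intro n
    induction n using Nat.strong_induction_on with
    | _ n ih =>
      intro m hm
      rcases eq_or_ne m 0 with rfl | hm0
      · simp
      obtain ⟨i, hi⟩ := Finsupp.support_nonempty_iff.2 hm0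
      let m' := m - Finsupp.single i 1
      have hmm : m = m' + Finsupp.single i 1 := by
        ext j
        by_cases hji : j = i
        · subst hji
          have : m j ≠ 0 := Finsupp.mem_support_iff.1 hi
          simp [m']; omega
        · simp [m', Ne.symm hji]
      have hsum : (m'.sum fun _ e => e) + 1 ≤ n + 1 := by
        rw [hmm, Finsupp.sum_add_index' (fun _ => rfl) (fun _ _ _ => rfl), Finsupp.sum_single_index rfl] at hm
        exact hm
      have hmon : monomial m (1 : k) = monomial m' 1 * X i := by
        rw [X, monomial_mul, ← hmm, one_mul]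
      have hτX : τ (X i) = X i + C (v i) := aeval_X _ i
      have e : τ (monomial m 1) - monomial m 1 =
          (τ (monomial m' 1) - monomial m' 1) * (X i + C (v i)) + monomial m' 1 * C (v i) := by
        rw [hmon, map_mul, hτX]; ring
      rw [e]
      refine (totalDegree_add _ _).trans (max_le ?_ ?_)
      · rcases Nat.eq_zero_or_pos (m'.sum fun _ e => e) with h0 | hpos
        · have hm' : m' = 0 := by
            by_contra hne
            obtain ⟨j, hj⟩ := Finsupp.support_nonempty_iff.2 hne
            rw [Finsupp.sum, Finset.sum_eq_zero_iff] at h0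
            exact Finsupp.mem_support_iff.1 hj (h0 j hj)
          rw [hm']
          simp
        · obtain ⟨l, rfl⟩ : ∃ l, n = l + 1 := ⟨n - 1, by omega⟩
          refine (totalDegree_mul _ _).trans ?_
          have h1 := ih l (by omega) m' (by omega)
          have h2 : (X i + C (v i) : MvPolynomial (Fin 2) k).totalDegree ≤ 1 :=
            (totalDegree_add _ _).trans (max_le (totalDegree_X i).le (by simp))
          omega
      · refine (totalDegree_mul _ _).trans ?_
        have h1 : (monomial m' (1 : k)).totalDegree = m'.sum fun _ e => e := totalDegree_monomial _ one_ne_zero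
        have h2 : (C (v i) : MvPolynomial (Fin 2) k).totalDegree = 0 := totalDegree_C _
        omega
  have hf' : f = ∑ m ∈ f.support, coeff m f • monomial m (1 : k) := by
    conv_lhs => rw [f.as_sum]
    simp [smul_monomial]
  rw [hf', map_sum, ← Finset.sum_sub_distrib]
  refine totalDegree_finsetSum_le fun m hm => ?_
  rw [map_smul, ← smul_sub]
  exact (totalDegree_smul_le _ _).trans (key d m ((le_totalDegree hm).trans hf))

/-- An algebraic subgroup of the plane which is not dense lies in the zero set of an additive polynomial. -/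
theorem exists_addFun_rel [Infinite k] (H : AddSubgroup (Fin 2 → k)) {f₀ : MvPolynomial (Fin 2) k} (hf₀ : f₀ ≠ 0)
    (hH : ∀ h ∈ H, eval h f₀ = 0) :
    ∃ g g' : Polynomial k, AddFun g ∧ AddFun g' ∧ (g ≠ 0 ∨ g' ≠ 0) ∧ ∀ h ∈ H, g.eval (h 0) + g'.eval (h 1) = 0 := by
  classical
  have hex : ∃ n, ∃ f : MvPolynomial (Fin 2) k, f ≠ 0 ∧ (∀ h ∈ H, eval h f = 0) ∧ f.totalDegree = n :=
    ⟨_, f₀, hf₀, hH, rfl⟩
  obtain ⟨f, hf, hfH, hfn⟩ := Nat.find_spec hex
  have hd : 0 < f.totalDegree := by
    refine Nat.pos_of_ne_zero fun h0 => hf ?_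
    have h1 := hfH 0 H.zero_mem
    rw [totalDegree_eq_zero_iff_eq_C.1 h0, eval_C] at h1
    rw [totalDegree_eq_zero_iff_eq_C.1 h0, h1, C_0]
  obtain ⟨d, hd'⟩ : ∃ d, f.totalDegree = d + 1 := ⟨f.totalDegree - 1, by omega⟩
  have hmin : ∀ F : MvPolynomial (Fin 2) k, (∀ h ∈ H, eval h F = 0) → F.totalDegree ≤ d → F = 0 := fun F hF hdeg => by
    by_contra hne
    exact Nat.find_min hex (m := F.totalDegree) (by omega) ⟨F, hne, hF, rfl⟩
  have heval : ∀ (v w : Fin 2 → k), eval w (aeval (fun i => X i + C (v i)) f) = eval (fun i => w i + v i) f := by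
    intro v w
    rw [aeval_def, eval_eval₂]
    show eval₂ ((eval w).comp (algebraMap k _)) (fun i => eval w (X i + C (v i))) f = _
    simp only [map_add, eval_X, eval_C]
    rw [show (eval w).comp (algebraMap k (MvPolynomial (Fin 2) k)) = RingHom.id k from RingHom.ext fun c => eval_C c]
    rfl
  have hper : ∀ h ∈ H, ∀ w : Fin 2 → k, eval (fun i => w i + h i) f = eval w f := by
    intro h hh w
    have h0 : aeval (fun i => X i + C (h i)) f - f = 0 := by
      refine hmin _ (fun u hu => ?_) (shift_sub_mem h hd'.le)
      rw [map_sub, heval, show (fun i => u i + h i) = u + h from rfl, hfH _ (H.add_mem hu hh), hfH u hu, sub_zero]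
    rw [← heval, sub_eq_zero.1 h0]
  have hadd : ∀ v w : Fin 2 → k, eval (fun i => w i + v i) f = eval w f + eval v f := by
    intro v w
    have h0 : aeval (fun i => X i + C (v i)) f - f - C (eval v f) = 0 := by
      refine hmin _ (fun h hh => ?_) ((totalDegree_sub _ _).trans (max_le (shift_sub_mem v hd'.le) (by simp)))
      rw [map_sub, map_sub, heval, eval_C, hfH h hh, sub_zero, sub_eq_zero]
      rw [← hper h hh v]
      simp only [add_comm]
    rw [← heval, ← sub_eq_zero, ← sub_sub]
    have := congrArg (eval w) h0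
    simpa using this
  let g : Polynomial k := aeval ![Polynomial.X, 0] f
  let g' : Polynomial k := aeval ![0, Polynomial.X] f
  have hg : ∀ a, g.eval a = eval ![a, 0] f := fun a => by
    show Polynomial.evalRingHom a (aeval ![Polynomial.X, 0] f) = _
    rw [aeval_def, eval₂_comp_left]
    show eval₂ _ _ f = eval₂ (RingHom.id k) _ f
    congr 1
    · ext c; simp
    · funext i; fin_cases i <;> simp
  have hg' : ∀ a, g'.eval a = eval ![0, a] f := fun a => by
    show Polynomial.evalRingHom a (aeval ![0, Polynomial.X] f) = _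
    rw [aeval_def, eval₂_comp_left]
    show eval₂ _ _ f = eval₂ (RingHom.id k) _ f
    congr 1
    · ext c; simp
    · funext i; fin_cases i <;> simp
  have hsplit : ∀ w : Fin 2 → k, eval w f = g.eval (w 0) + g'.eval (w 1) := fun w => by
    rw [hg, hg', ← hadd]
    congr 2
    funext i
    fin_cases i <;> simp
  refine ⟨g, g', fun a b => ?_, fun a b => ?_, ?_, fun h hh => (hsplit h).symm.trans (hfH h hh)⟩
  · rw [hg, hg, hg, ← hadd]
    congr 2
    funext i
    fin_cases i <;> simp
  · rw [hg', hg', hg', ← hadd]
    congr 2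
    funext i
    fin_cases i <;> simp
  · by_contra hne
    push Not at hne
    refine hf (MvPolynomial.funext fun w => ?_)
    rw [hsplit, hne.1, hne.2]
    simp

end Rel

end Groth.Agent.DimOne
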