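import Groth.Agent.DynLimit.Connected
import Groth.Agent.LieKol.Affine
import Groth.Agent.CoradFil.Points
import Groth.Agent.S7975
import Mathlib.GroupTheory.Nilpotent
import Mathlib.RingTheory.Artinian.Ring
import Mathlib.RingTheory.KrullDimension.Zero
import Mathlib.LinearAlgebra.Matrix.Charpoly.Coeff
import Mathlib.LinearAlgebra.Matrix.ToLin

/-!
# Connected groups of dimension one are commutative
-/

set_option autoImplicit false

universe u

open TensorProduct WithConv

noncomputable section

namespace Groth.Agent.DimOne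

open Groth.Agent.ComodLib Groth.Agent.LieKol

attribute [local instance] LieKol.ptTop

variable (k : Type u) [Field k] (A : Type u) [CommRing A] [HopfAlgebra k A]

/-- A connected reduced group of dimension one. -/
structure IsDimOne : Prop where
  isDomain : IsDomain A
  hconn : ∀ e : A, IsIdempotentElem e → e = 0 ∨ e = 1
  dim : ringKrullDim A = 1

variable {k A}

theorem IsDimOne.mk' [Algebra.FiniteType k A] [IsReduced A] (hconn : ∀ e : A, IsIdempotentElem e → e = 0 ∨ e = 1)
    (hdim : ringKrullDim A = 1) : IsDimOne A := by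
  refine ⟨?_, hconn, hdim⟩
  have hirr := DynLimit.irreducibleSpace_spec k hconn
  have hp : (nilradical A).IsPrime := PrimeSpectrum.irreducibleSpace_iff_isPrime_nilradical.1 hirr
  rw [nilradical_eq_bot_iff.2 ‹IsReduced A›] at hp
  exact IsDomain.of_bot_isPrime A

variable [Algebra.FiniteType k A]

/-- A nonzero function has finitely many rational zeros. -/
theorem IsDimOne.finite_zeros (h : IsDimOne A) {f : A} (hf : f ≠ 0) :
    {g : WithConv (A →ₐ[k] k) | g.ofConv f = 0}.Finite := by
  haveI := h.isDomain
  haveI : IsNoetherianRing A := Algebra.FiniteType.isNoetherianRing k A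
  let I : Ideal A := Ideal.span {f}
  haveI : Ring.KrullDimLE 0 (A ⧸ I) := Ring.krullDimLE_zero_iff.2 fun P hP => by
    let q := P.comap (Ideal.Quotient.mk I)
    haveI : q.IsPrime := Ideal.comap_isPrime _ _
    have hqI : I ≤ q := fun x hx => by
      show Ideal.Quotient.mk I x ∈ P
      rw [Ideal.Quotient.eq_zero_iff_mem.2 hx]; exact P.zero_mem
    suffices q.IsMaximal by
      have h2 := (Ideal.map_eq_top_or_isMaximal_of_surjective (Ideal.Quotient.mk I) Ideal.Quotient.mk_surjective this)
      rw [Ideal.map_comap_of_surjective _ Ideal.Quotient.mk_surjective] at h2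
      exact h2.resolve_left hP.ne_top
    by_contra hmax
    obtain ⟨m, hm, hqm⟩ := Ideal.exists_le_maximal q (Ideal.IsPrime.ne_top ‹_›)
    haveI := hm.isPrime
    have hlt : q < m := lt_of_le_of_ne hqm fun e => hmax (e ▸ hm)
    have hq0 : (⊥ : Ideal A) < q := bot_lt_iff_ne_bot.2 fun e => hf (by
      have : f ∈ q := hqI (Ideal.mem_span_singleton_self f)
      rwa [e, Ideal.mem_bot] at this)
    let c : LTSeries (PrimeSpectrum A) :=
      (((RelSeries.singleton _ (⟨⊥, Ideal.isPrime_bot⟩ : PrimeSpectrum A)).snoc ⟨q, ‹_›⟩ hq0).snoc ⟨m, hm.isPrime⟩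
        (by rw [RelSeries.last_snoc]; exact hlt))
    have h2 : ((2 : ℕ) : WithBot ℕ∞) ≤ ringKrullDim A := by
      have := Order.LTSeries.length_le_krullDim c
      exact this
    rw [h.dim] at h2
    norm_cast at h2
  haveI : IsArtinianRing (A ⧸ I) := isArtinianRing_iff_krullDimLE_zero.mpr inferInstance
  haveI : Finite (PrimeSpectrum (A ⧸ I)) := inferInstance
  refine Set.Finite.of_finite_image (f := fun g : WithConv (A →ₐ[k] k) =>
    (⟨RingHom.ker g.ofConv, RingHom.ker_isPrime _⟩ : PrimeSpectrum A)) ?_ ?_
  · refine (Set.finite_range (PrimeSpectrum.comap (Ideal.Quotient.mk I))).subset ?_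
    rintro _ ⟨g, hg, rfl⟩
    rw [range_comap_of_surjective _ _ Ideal.Quotient.mk_surjective, Ideal.mk_ker,
      PrimeSpectrum.mem_zeroLocus]
    intro x hx
    obtain ⟨a, rfl⟩ := Ideal.mem_span_singleton'.1 hx
    show g.ofConv (a * f) = 0
    rw [map_mul, show g.ofConv f = 0 from hg, mul_zero]
  · intro g _ g' _ hgg
    refine WithConv.ext (AlgHom.ext fun a => ?_)
    have hm : a - algebraMap k A (g.ofConv a) ∈ RingHom.ker g'.ofConv := by
      have e : RingHom.ker g.ofConv = RingHom.ker g'.ofConv := congrArg PrimeSpectrum.asIdeal hgg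
      rw [← e, RingHom.mem_ker, map_sub, AlgHom.commutes]
      simp
    rw [RingHom.mem_ker, map_sub, AlgHom.commutes, sub_eq_zero] at hm
    exact hm.symm

variable [IsAlgClosed k]

/-- Functions vanishing at infinitely many points vanish. -/
theorem IsDimOne.eq_zero_of_infinite (h : IsDimOne A) {f : A} {S : Set (WithConv (A →ₐ[k] k))} (hS : S.Infinite)
    (hf : ∀ g ∈ S, g.ofConv f = 0) : f = 0 := by
  by_contra hne
  exact hS ((h.finite_zeros hne).subset hf)

theorem IsDimOne.infinite_pts (h : IsDimOne A) : (Set.univ : Set (WithConv (A →ₐ[k] k))).Infinite := by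
  haveI := h.isDomain
  intro hfin
  have h1 : ∀ g : WithConv (A →ₐ[k] k), g = 1 := fun g =>
    eq_of_finite_values (isPreconnected_pts h.hconn) (c₀ := (1 : WithConv (A →ₐ[k] k))) id (by simpa using hfin)
      (fun c => ⟨⋂ a : A, {g | g.ofConv a = c.ofConv a}, isClosed_iInter fun a => isClosed_eq a _,
        fun x _ => by simp [WithConv.ext_iff, AlgHom.ext_iff]⟩)
      (Set.mem_univ 1) rfl g trivial
  have hs : ∀ a : A, algebraMap k A (Coalgebra.counit (R := k) a) = a := fun a => by
    refine sub_eq_zero.1 (eq_zero_of_forall_pt (k := k) fun g => ?_)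
    rw [map_sub, AlgHom.commutes, show g a = (toConv g).ofConv a from rfl, h1 (toConv g), AlgHom.convOne_apply]
    simp
  have e : k ≃+* A := RingEquiv.ofBijective (algebraMap k A)
    ⟨(algebraMap k A).injective, fun a => ⟨_, hs a⟩⟩
  have h0 := ringKrullDim_eq_of_ringEquiv e
  rw [ringKrullDim_eq_zero_of_field, h.dim] at h0
  exact zero_ne_one h0

/-- The function `g ↦ (g x g⁻¹)(a)`. -/
theorem exists_conj_fun (x : WithConv (A →ₐ[k] k)) (a : A) :
    ∃ F : A, ∀ g : WithConv (A →ₐ[k] k), g.ofConv F = (g * x * g⁻¹).ofConv a := by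
  let X : WithConv (A →ₐ[k] A) := toConv (AlgHom.id k A)
  let c : WithConv (A →ₐ[k] A) := LieKol.push (Algebra.ofId k A) x
  refine ⟨(X * c * X⁻¹).ofConv a, fun g => ?_⟩
  show (LieKol.push g.ofConv (X * c * X⁻¹)).ofConv a = _
  rw [map_mul, map_mul, map_inv]
  have e : LieKol.push g.ofConv c = x := WithConv.ext (AlgHom.ext fun y => by
    show g.ofConv (algebraMap k A (x.ofConv y)) = x.ofConv y
    rw [AlgHom.commutes]; rfl)
  rw [e]
  rfl

theorem IsDimOne.central_or_infinite (h : IsDimOne A) (x : WithConv (A →ₐ[k] k)) :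
    x ∈ Subgroup.center (WithConv (A →ₐ[k] k)) ∨
      (Set.range fun g : WithConv (A →ₐ[k] k) => g * x * g⁻¹).Infinite := by
  haveI := h.isDomain
  by_cases hfin : (Set.range fun g : WithConv (A →ₐ[k] k) => g * x * g⁻¹).Finite
  · left
    choose F hF using exists_conj_fun (k := k) (A := A) x
    have key := eq_of_finite_values (isPreconnected_pts h.hconn) (c₀ := x) (fun g => g * x * g⁻¹)
      (by rwa [Set.image_univ])
      (fun c => ⟨⋂ a : A, {g | g.ofConv (F a) = c.ofConv a}, isClosed_iInter fun a => isClosed_eq _ _,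
        fun g _ => by simp [hF, WithConv.ext_iff, AlgHom.ext_iff]⟩)
      (Set.mem_univ 1) (by simp)
    refine Subgroup.mem_center_iff.2 fun g => ?_
    have := key g trivial
    conv_rhs => rw [← this]
    group
  · exact Or.inr hfin

theorem IsDimOne.commutative_or_finite_center (h : IsDimOne A) :
    (∀ x y : WithConv (A →ₐ[k] k), x * y = y * x) ∨
      (Subgroup.center (WithConv (A →ₐ[k] k)) : Set (WithConv (A →ₐ[k] k))).Finite := by
  haveI := h.isDomain
  by_cases hfin : (Subgroup.center (WithConv (A →ₐ[k] k)) : Set (WithConv (A →ₐ[k] k))).Finite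
  · exact Or.inr hfin
  left
  intro x y
  have h1 : ∀ g : WithConv (A →ₐ[k] k), g * x * g⁻¹ = x := by
    intro g
    refine WithConv.ext (AlgHom.ext fun a => ?_)
    obtain ⟨F, hF⟩ := exists_conj_fun x a
    have h0 := h.eq_zero_of_infinite (f := F - algebraMap k A (x.ofConv a)) hfin fun z hz => by
      rw [map_sub, AlgHom.commutes, hF, show z * x * z⁻¹ = x by
        rw [← (Subgroup.mem_center_iff.1 hz x), mul_inv_cancel_right]]
      simp
    have := congrArg g.ofConv h0
    rwa [map_sub, map_zero, AlgHom.commutes, hF, sub_eq_zero] at this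
  have := h1 y
  calc x * y = (y * x * y⁻¹) * y := by rw [this]
    _ = y * x := by group

/-- The points of a non-commutative group of dimension one act unipotently. -/
theorem IsDimOne.isNilpotent_rep (h : IsDimOne A) {x₀ : WithConv (A →ₐ[k] k)}
    (hx₀ : x₀ ∉ Subgroup.center (WithConv (A →ₐ[k] k))) (V : Type u) [AddCommGroup V] [Module k V]
    [HopfRep.Comod k A V] [Module.Finite k V] (g : WithConv (A →ₐ[k] k)) :
    IsNilpotent (rep (k := k) (A := A) V g - 1) := by
  classical
  haveI := h.isDomain
  let b := Module.finBasis k V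
  let M : Matrix (Fin (Module.finrank k V)) (Fin (Module.finrank k V)) A := Matrix.of (matrixOf (A := A) b)
  have hM : ∀ g : WithConv (A →ₐ[k] k), LinearMap.toMatrix b b (rep (k := k) (A := A) V g) = M.map g.ofConv := by
    intro g
    ext i j
    rw [LinearMap.toMatrix_apply, ← b.coord_apply, apply_rep, coact_matrixOf (A := A) b j]
    simp [M, Finsupp.single_apply]
  have hchar : ∀ g : WithConv (A →ₐ[k] k),
      (rep (k := k) (A := A) V g).charpoly = M.charpoly.map (g.ofConv : A →+* k) := by
    intro g
    rw [← LinearMap.charpoly_toMatrix _ b, hM, ← Matrix.charpoly_map]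
    rfl
  rcases h.central_or_infinite x₀ with hc | hinf
  · exact absurd hc hx₀
  have hconj : ∀ g, (rep (k := k) (A := A) V (g * x₀ * g⁻¹)).charpoly = (rep (k := k) (A := A) V x₀).charpoly := by
    intro g
    rw [map_mul, map_mul]
    let e : V ≃ₗ[k] V := LinearEquiv.ofLinear (rep (k := k) (A := A) V g) (rep (k := k) (A := A) V g⁻¹)
      (by show rep (k := k) (A := A) V g * rep (k := k) (A := A) V g⁻¹ = 1; rw [← map_mul, mul_inv_cancel, map_one])
      (by show rep (k := k) (A := A) V g⁻¹ * rep (k := k) (A := A) V g = 1; rw [← map_mul, inv_mul_cancel, map_one])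
    exact LinearEquiv.charpoly_conj e (rep (k := k) (A := A) V x₀)
  have hconst : ∀ i, M.charpoly.coeff i = algebraMap k A ((rep (k := k) (A := A) V x₀).charpoly.coeff i) := fun i => by
    refine sub_eq_zero.1 (h.eq_zero_of_infinite hinf ?_)
    rintro _ ⟨g, rfl⟩
    rw [map_sub, AlgHom.commutes, ← hconj g, hchar, Polynomial.coeff_map]
    simp
  have heq : ∀ g : WithConv (A →ₐ[k] k),
      (rep (k := k) (A := A) V g).charpoly = (rep (k := k) (A := A) V x₀).charpoly := by
    intro g
    ext i
    rw [hchar g, Polynomial.coeff_map, hconst i]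
    simp
  have h1 : (rep (k := k) (A := A) V g).charpoly = (Polynomial.X - 1) ^ Module.finrank k V := by
    rw [heq g, ← heq 1, map_one, LinearMap.charpoly_one]
  refine ⟨Module.finrank k V, ?_⟩
  have h2 := LinearMap.aeval_self_charpoly (rep (k := k) (A := A) V g)
  rw [h1, map_pow, map_sub, Polynomial.aeval_X, map_one] at h2
  exact h2

theorem IsDimOne.isUnipotent (h : IsDimOne A) {x₀ : WithConv (A →ₐ[k] k)}
    (hx₀ : x₀ ∉ Subgroup.center (WithConv (A →ₐ[k] k))) : HopfRep.IsUnipotent k A := by
  classical
  haveI := h.isDomain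
  intro V _ _ _ hfin hnt
  obtain ⟨v, hv, hfix⟩ := Groth.Agent.S7975.result k (WithConv (A →ₐ[k] k)) V (rep (k := k) (A := A) V)
    (fun g => h.isNilpotent_rep hx₀ V g)
  refine (Submodule.ne_bot_iff _).2 ⟨v, ?_, hv⟩
  show HopfRep.Comod.coact (k := k) (A := A) v = v ⊗ₜ[k] 1
  let b := Module.finBasis k V
  have hsum : ∀ z : V ⊗[k] A, z = ∑ i, b i ⊗ₜ[k] TensorProduct.lid k A ((b.coord i).rTensor A z) := fun z => by
    induction z using TensorProduct.induction_on with
    | zero => simp
    | tmul x a =>
      conv_lhs => rw [← b.sum_repr x, TensorProduct.sum_tmul]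
      simp [TensorProduct.smul_tmul']
    | add p q hp hq => simp only [map_add, tmul_add, Finset.sum_add_distrib, ← hp, ← hq]
  rw [hsum (HopfRep.Comod.coact (k := k) (A := A) v), hsum (v ⊗ₜ[k] 1)]
  refine Finset.sum_congr rfl fun i _ => congrArg (b i ⊗ₜ[k] ·) ?_
  refine sub_eq_zero.1 (eq_zero_of_forall_pt (k := k) fun g => ?_)
  rw [map_sub, show g (TensorProduct.lid k A ((b.coord i).rTensor A (HopfRep.Comod.coact (k := k) (A := A) v))) =
    b.coord i (rep V (toConv g) v) from (apply_rep (b.coord i) (toConv g) v).symm, hfix, LinearMap.rTensor_tmul,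
    TensorProduct.lid_tmul, map_smul, map_one, smul_eq_mul, mul_one, sub_self]

/-- The rational points of a connected group of dimension one commute. -/
theorem IsDimOne.comm_pts (h : IsDimOne A) (x y : WithConv (A →ₐ[k] k)) : x * y = y * x := by
  rcases h.commutative_or_finite_center (k := k) with hc | hfin
  · exact hc x y
  by_contra hne
  have hy : x ∉ Subgroup.center (WithConv (A →ₐ[k] k)) := fun hm => hne (Subgroup.mem_center_iff.1 hm y).symm
  have hU := h.isUnipotent hy
  haveI : Group.IsNilpotent (WithConv (A →ₐ[k] k)) := CoradFil.isNilpotent_points (CoradFil.exh_of_isUnipotent hU)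
  classical
  have hex : ∃ n, ¬ Subgroup.upperCentralSeries (WithConv (A →ₐ[k] k)) n ≤ Subgroup.center _ := by
    obtain ⟨n, hn⟩ := Group.IsNilpotent.nilpotent (G := WithConv (A →ₐ[k] k))
    exact ⟨n, fun hle => hy (hle (hn ▸ Subgroup.mem_top x))⟩
  obtain ⟨m, hm⟩ : ∃ m, Nat.find hex = m + 1 := Nat.exists_eq_succ_of_ne_zero fun h0 => by
    have := Nat.find_spec hex
    rw [h0, Subgroup.upperCentralSeries_zero] at this
    exact this bot_le
  have hle : Subgroup.upperCentralSeries (WithConv (A →ₐ[k] k)) m ≤ Subgroup.center _ :=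
    not_not.1 (Nat.find_min hex (by omega))
  obtain ⟨z, hz, hzc⟩ := SetLike.not_le_iff_exists.1 (hm ▸ Nat.find_spec hex)
  rcases h.central_or_infinite z with h' | hinf
  · exact hzc h'
  refine hinf ((hfin.image fun c => c * z).subset ?_)
  rintro _ ⟨g, rfl⟩
  refine ⟨g * z * g⁻¹ * z⁻¹, ?_, by group⟩
  have h3 := hle (Subgroup.inv_mem _ (Subgroup.mem_upperCentralSeries_succ_iff.1 hz g))
  simpa [mul_inv_rev, mul_assoc, commutatorElement_def] using h3

/-- Tensors are separated by pairs of points. -/
theorem tensor_eq_zero [IsReduced A] {z : A ⊗[k] A}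
    (hz : ∀ g g' : WithConv (A →ₐ[k] k), LinearMap.mul' k k (TensorProduct.map g.ofConv.toLinearMap g'.ofConv.toLinearMap z) = 0) :
    z = 0 := by
  refine eq_zero_of_forall_slice_eq_zero fun φ => eq_zero_of_forall_pt (k := k) fun g => ?_
  have hφ : g (slice φ z) = φ (TensorProduct.lid k A (g.toLinearMap.rTensor A z)) := by
    clear hz
    induction z using TensorProduct.induction_on with
    | zero => simp
    | tmul p q => simp [mul_comm]
    | add p q hp hq => simp only [map_add, hp, hq]
  rw [hφ]
  suffices TensorProduct.lid k A (g.toLinearMap.rTensor A z) = 0 by rw [this, map_zero]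
  refine eq_zero_of_forall_pt (k := k) fun g' => ?_
  rw [← hz (toConv g) (toConv g')]
  clear hz hφ
  induction z using TensorProduct.induction_on with
  | zero => simp
  | tmul p q => simp
  | add p q hp hq => simp only [map_add, hp, hq]

/-- A connected group of dimension one is commutative. -/
theorem IsDimOne.isCocomm (h : IsDimOne A) : Coalgebra.IsCocomm k A := by
  haveI := h.isDomain
  refine ⟨LinearMap.ext fun a => sub_eq_zero.1 (tensor_eq_zero (k := k) fun g g' => ?_)⟩
  rw [map_sub, map_sub, sub_eq_zero]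
  have e1 : ∀ z : A ⊗[k] A, LinearMap.mul' k k (TensorProduct.map g.ofConv.toLinearMap g'.ofConv.toLinearMap
      (TensorProduct.comm k A A z)) =
      LinearMap.mul' k k (TensorProduct.map g'.ofConv.toLinearMap g.ofConv.toLinearMap z) := fun z => by
    induction z using TensorProduct.induction_on with
    | zero => simp
    | tmul p q => simp [mul_comm]
    | add p q hp hq => simp only [map_add, hp, hq]
  have e2 : ∀ g g' : WithConv (A →ₐ[k] k), (g * g').ofConv a =
      LinearMap.mul' k k (TensorProduct.map g.ofConv.toLinearMap g'.ofConv.toLinearMap (Coalgebra.comul (R := k) a)) :=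
    fun g g' => by
      show (g * g') a = _
      rw [AlgHom.convMul_apply]
      induction Coalgebra.comul (R := k) a using TensorProduct.induction_on with
      | zero => simp
      | tmul p q => simp
      | add p q hp hq => simp only [map_add, hp, hq]
  simp only [LinearMap.comp_apply, LinearEquiv.coe_coe, e1, ← e2, h.comm_pts g g']

end Groth.Agent.DimOne
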