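import Groth.Agent.DimOne.Comm
import Groth.Agent.DimOne.AddPoly
import Groth.Agent.UniPrim.Basic
import Groth.Agent.ComodLib.PrimCriteria
import Groth.Agent.VarDim.Basic
import Groth.Agent.GaChar.Cocycle
import Mathlib.RingTheory.Bialgebra.SymmetricAlgebra
import Mathlib.LinearAlgebra.SymmetricAlgebra.Basis
import Mathlib.RingTheory.AlgebraicIndependent.TranscendenceBasis

/-!
# A connected group of dimension one without characters is the additive group
-/

set_option autoImplicit false

universe u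

open TensorProduct WithConv

noncomputable section

namespace Groth.Agent.DimOne

open Groth.Agent.ComodLib Groth.Agent.LieKol

variable {k : Type u} [Field k] {A : Type u} [CommRing A] [HopfAlgebra k A]

variable (k A) in
/-- The deviation from being primitive. -/
def dev : A →ₗ[k] A ⊗[k] A :=
  Coalgebra.comul (R := k) - (TensorProduct.mk k A A).flip 1 - TensorProduct.mk k A A 1

theorem dev_apply (a : A) : dev k A a = Coalgebra.comul (R := k) a - a ⊗ₜ[k] 1 - (1 : A) ⊗ₜ[k] a := rfl

variable (k A) in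
/-- The primitive elements. -/
def prim : Submodule k A := LinearMap.ker (dev k A)

theorem mem_prim {x : A} :
    x ∈ prim k A ↔ Coalgebra.comul (R := k) x = x ⊗ₜ[k] 1 + (1 : A) ⊗ₜ[k] x := by
  rw [prim, LinearMap.mem_ker, dev_apply, sub_sub, sub_eq_zero]

/-- Evaluation at a pair of points. -/
def ev2 (g h : WithConv (A →ₐ[k] k)) : A ⊗[k] A →ₐ[k] k :=
  Algebra.TensorProduct.lift g.ofConv h.ofConv fun _ _ => Commute.all _ _

theorem ev2_tmul (g h : WithConv (A →ₐ[k] k)) (a b : A) : ev2 g h (a ⊗ₜ[k] b) = g.ofConv a * h.ofConv b :=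
  Algebra.TensorProduct.lift_tmul _ _ _ _ _

theorem mul_pt (g h : WithConv (A →ₐ[k] k)) (a : A) :
    (g * h).ofConv a = ev2 g h (Coalgebra.comul (R := k) a) := by
  show (g * h) a = _
  rw [AlgHom.convMul_apply]
  induction Coalgebra.comul (R := k) a using TensorProduct.induction_on with
  | zero => simp
  | tmul p q => simp [ev2_tmul]
  | add p q hp hq => simp only [map_add, hp, hq]

theorem one_pt (a : A) : (1 : WithConv (A →ₐ[k] k)).ofConv a = Coalgebra.counit (R := k) a := by
  show (1 : WithConv (A →ₐ[k] k)) a = _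
  rw [AlgHom.convOne_apply]
  rfl

theorem ev2_dev (g h : WithConv (A →ₐ[k] k)) (a : A) :
    ev2 g h (dev k A a) = (g * h).ofConv a - g.ofConv a - h.ofConv a := by
  rw [dev_apply, map_sub, map_sub, ← mul_pt, ev2_tmul, ev2_tmul, map_one, map_one, mul_one, one_mul]

theorem prim_mul_pt {x : A} (hx : x ∈ prim k A) (g h : WithConv (A →ₐ[k] k)) :
    (g * h).ofConv x = g.ofConv x + h.ofConv x := by
  have := ev2_dev g h x
  rw [show dev k A x = 0 from hx, map_zero, eq_comm, sub_sub, sub_eq_zero] at this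
  exact this

theorem prim_one_pt {x : A} (hx : x ∈ prim k A) : (1 : WithConv (A →ₐ[k] k)).ofConv x = 0 := by
  have := prim_mul_pt hx (1 : WithConv (A →ₐ[k] k)) 1
  rw [mul_one] at this
  exact left_eq_add.1 this

theorem prim_pow_pt {x : A} (hx : x ∈ prim k A) (g : WithConv (A →ₐ[k] k)) (n : ℕ) :
    (g ^ n).ofConv x = n * g.ofConv x := by
  induction n with
  | zero => rw [pow_zero, prim_one_pt hx, Nat.cast_zero, zero_mul]
  | succ n ih => rw [pow_succ, prim_mul_pt hx, ih, Nat.cast_succ, add_mul, one_mul]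

theorem prim_eq_zero_of_mem_range {x : A} (hx : x ∈ prim k A) (hr : x ∈ (algebraMap k A).range) : x = 0 := by
  obtain ⟨c, rfl⟩ := hr
  have h1 := prim_one_pt hx
  rw [AlgHom.commutes, Algebra.algebraMap_self, RingHom.id_apply] at h1
  rw [h1, map_zero]

theorem prim_pow_expChar (q : ℕ) [ExpChar k q] [Nontrivial A] {x : A} (hx : x ∈ prim k A) (n : ℕ) :
    x ^ q ^ n ∈ prim k A := by
  haveI : Nontrivial (A ⊗[k] A) :=
    (Algebra.TensorProduct.lift (Bialgebra.counitAlgHom k A) (Bialgebra.counitAlgHom k A)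
      fun _ _ => Commute.all _ _).toRingHom.domain_nontrivial
  haveI : ExpChar (A ⊗[k] A) q := expChar_of_injective_algebraMap (algebraMap k (A ⊗[k] A)).injective q
  rw [mem_prim] at hx ⊢
  rw [Bialgebra.comul_pow, hx, add_pow_expChar_pow, Algebra.TensorProduct.tmul_pow, Algebra.TensorProduct.tmul_pow,
    one_pow]

theorem eval_aeval (g : WithConv (A →ₐ[k] k)) (z : A) (P : Polynomial k) :
    g.ofConv (Polynomial.aeval z P) = P.eval (g.ofConv z) := by
  rw [← Polynomial.aeval_algHom_apply, Polynomial.coe_aeval_eq_eval]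

variable [IsAlgClosed k] [Algebra.FiniteType k A]

theorem ext_pts [IsReduced A] {a b : A} (h : ∀ g : WithConv (A →ₐ[k] k), g.ofConv a = g.ofConv b) : a = b :=
  sub_eq_zero.1 (eq_zero_of_forall_pt (k := k) fun g => by rw [map_sub, sub_eq_zero]; exact h (toConv g))

theorem mem_prim_iff_pts [IsReduced A] {x : A} :
    x ∈ prim k A ↔ ∀ g h : WithConv (A →ₐ[k] k), (g * h).ofConv x = g.ofConv x + h.ofConv x := by
  refine ⟨prim_mul_pt, fun hx => tensor_eq_zero (k := k) fun g h => ?_⟩
  have he : ∀ w : A ⊗[k] A, LinearMap.mul' k k (TensorProduct.map g.ofConv.toLinearMap h.ofConv.toLinearMap w) =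
      ev2 g h w := fun w => by
    induction w using TensorProduct.induction_on with
    | zero => simp
    | tmul p q => simp [ev2_tmul]
    | add p q hp hq => simp only [map_add, hp, hq]
  rw [he, ev2_dev, hx, sub_sub, sub_self]

omit [Algebra.FiniteType k A] in
theorem mem_range_of_isAlgebraic [IsDomain A] {x : A} (hx : IsAlgebraic k x) : x ∈ (algebraMap k A).range :=
  minpoly.mem_range_of_degree_eq_one k x
    (IsAlgClosed.degree_eq_one_of_irreducible k (minpoly.irreducible hx.isIntegral))

omit [Algebra.FiniteType k A] in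
theorem prim_aeval_eq_zero [IsDomain A] {y : A} (hy : y ∈ prim k A) {P : Polynomial k} (hP : P ≠ 0)
    (h : Polynomial.aeval y P = 0) : y = 0 :=
  prim_eq_zero_of_mem_range hy (mem_range_of_isAlgebraic ⟨P, hP, h⟩)

/-- Euclid's algorithm on additive relations between primitive elements. -/
theorem exists_common_of_rel (hd : IsDimOne A) (q : ℕ) [ExpChar k q] :
    ∀ (N : ℕ) (g g' : Polynomial k), AddFun g → AddFun g' → g ≠ 0 → g' ≠ 0 → g.natDegree + g'.natDegree ≤ N →
      ∀ x y : A, x ∈ prim k A → y ∈ prim k A → Polynomial.aeval x g + Polynomial.aeval y g' = 0 →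
        ∃ z ∈ prim k A, x ∈ Algebra.adjoin k {z} ∧ y ∈ Algebra.adjoin k {z} := by
  haveI := hd.isDomain
  intro N
  induction N with
  | zero =>
    intro g g' hg _ hg0 _ hN
    exact absurd (hg.natDegree_pos hg0) (by omega)
  | succ N ih =>
    intro g g' hg hg' hg0 hg'0 hN x y hx hy hrel
    wlog hle : g'.natDegree ≤ g.natDegree generalizing g g' x y
    · obtain ⟨z, hz, hyz, hxz⟩ := this g' g hg' hg hg'0 hg0 (by omega) y x hy hx (by rw [add_comm, hrel]) (by omega)
      exact ⟨z, hz, hxz, hyz⟩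
    obtain ⟨m, hm⟩ := hg.natDegree_eq_pow q hg0
    obtain ⟨n, hn⟩ := hg'.natDegree_eq_pow q hg'0
    have hn0 : 0 < q ^ n := hn ▸ hg'.natDegree_pos hg'0
    obtain ⟨d, hd'⟩ : ∃ d, q ^ m = q ^ n * q ^ d := by
      rcases le_total n m with h | h
      · exact ⟨m - n, by rw [← pow_add, Nat.add_sub_cancel' h]⟩
      · refine ⟨0, ?_⟩
        rw [pow_zero, mul_one]
        refine le_antisymm ?_ (by omega)
        rcases (expChar_pos k q) with hq
        exact Nat.pow_le_pow_right hq h
    obtain ⟨c, hc⟩ := IsAlgClosed.exists_pow_nat_eq (g.leadingCoeff / g'.leadingCoeff) hn0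
    have hc0 : c ≠ 0 := fun e => by
      rw [e, zero_pow hn0.ne'] at hc
      exact div_ne_zero (Polynomial.leadingCoeff_ne_zero.2 hg0) (Polynomial.leadingCoeff_ne_zero.2 hg'0) hc.symm
    let y' : A := y + c • x ^ q ^ d
    have hy' : y' ∈ prim k A := Submodule.add_mem _ hy (Submodule.smul_mem _ c (prim_pow_expChar q hx d))
    let M : Polynomial k := Polynomial.C c * Polynomial.X ^ q ^ d
    have hMdeg : M.natDegree = q ^ d := Polynomial.natDegree_C_mul_X_pow _ c hc0
    have hMlead : M.leadingCoeff = c := Polynomial.leadingCoeff_C_mul_X_pow c _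
    have hM : ∀ a : k, M.eval a = c * a ^ q ^ d := fun a => by simp [M]
    have hcomp : AddFun (g'.comp M) := fun a b => by
      rw [Polynomial.eval_comp, Polynomial.eval_comp, Polynomial.eval_comp, hM, hM, hM,
        add_pow_expChar_pow a b q d, mul_add, hg']
    let g₁ : Polynomial k := g - g'.comp M
    have hg₁ : AddFun g₁ := hg.sub hcomp
    have hrel₁ : Polynomial.aeval x g₁ + Polynomial.aeval y' g' = 0 := by
      refine ext_pts (k := k) fun p => ?_
      have h1 := congrArg p.ofConv hrel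
      rw [map_add, map_zero, eval_aeval, eval_aeval] at h1
      rw [map_add, map_zero, eval_aeval, eval_aeval]
      simp only [g₁, y', map_add, map_smul, map_pow, Polynomial.eval_sub, Polynomial.eval_comp, hM, smul_eq_mul]
      linear_combination h1 + hg' (p.ofConv y) (c * p.ofConv x ^ q ^ d)
    by_cases h10 : g₁ = 0
    · rw [h10, map_zero, zero_add] at hrel₁
      have hy0 := prim_aeval_eq_zero hy' hg'0 hrel₁
      refine ⟨x, hx, Algebra.self_mem_adjoin_singleton k x, ?_⟩
      rw [eq_neg_of_add_eq_zero_left (show y + c • x ^ q ^ d = 0 from hy0)]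
      exact Subalgebra.neg_mem _ (Subalgebra.smul_mem _ (Subalgebra.pow_mem _ (Algebra.self_mem_adjoin_singleton k x) _) c)
    · have hdeg : (g'.comp M).natDegree = g.natDegree := by rw [Polynomial.natDegree_comp, hn, hMdeg, hm, hd']
      have hlead : g.leadingCoeff = (g'.comp M).leadingCoeff := by
        rw [Polynomial.leadingCoeff_comp (by rw [hMdeg]; exact (pow_pos (expChar_pos k q) d).ne'), hMlead, hn, hc,
          mul_div_cancel₀ _ (Polynomial.leadingCoeff_ne_zero.2 hg'0)]
      have hcne : g'.comp M ≠ 0 := fun e => by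
        rw [e, Polynomial.leadingCoeff_zero] at hlead
        exact hg0 (Polynomial.leadingCoeff_eq_zero.1 hlead)
      have hlt : g₁.natDegree < g.natDegree := by
        refine Polynomial.natDegree_lt_natDegree h10 (Polynomial.degree_sub_lt_left ?_ hg0 hlead)
        rw [Polynomial.degree_eq_natDegree hg0, Polynomial.degree_eq_natDegree hcne, hdeg]
      obtain ⟨z, hz, hxz, hy'z⟩ := ih g₁ g' hg₁ hg' h10 hg'0 (by omega) x y' hx hy' hrel₁
      refine ⟨z, hz, hxz, ?_⟩
      rw [show y = y' - c • x ^ q ^ d from (add_sub_cancel_right _ _).symm]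
      exact Subalgebra.sub_mem _ hy'z (Subalgebra.smul_mem _ (Subalgebra.pow_mem _ hxz _) c)

/-- Two primitive elements are polynomials in a third one. -/
theorem exists_common (hd : IsDimOne A) {x y : A} (hx : x ∈ prim k A) (hy : y ∈ prim k A) :
    ∃ z ∈ prim k A, x ∈ Algebra.adjoin k {z} ∧ y ∈ Algebra.adjoin k {z} := by
  haveI := hd.isDomain
  obtain ⟨q, hq⟩ := ExpChar.exists k
  by_cases hx0 : x = 0
  · exact ⟨y, hy, hx0 ▸ Subalgebra.zero_mem _, Algebra.self_mem_adjoin_singleton k y⟩
  by_cases hy0 : y = 0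
  · exact ⟨x, hx, Algebra.self_mem_adjoin_singleton k x, hy0 ▸ Subalgebra.zero_mem _⟩
  let v : WithConv (A →ₐ[k] k) → Fin 2 → k := fun p => ![p.ofConv x, p.ofConv y]
  let H : AddSubgroup (Fin 2 → k) :=
    { carrier := Set.range v
      zero_mem' := ⟨1, by funext i; fin_cases i <;> simp [v, prim_one_pt hx, prim_one_pt hy]⟩
      add_mem' := by
        rintro _ _ ⟨p, rfl⟩ ⟨p', rfl⟩
        exact ⟨p * p', by funext i; fin_cases i <;> simp [v, prim_mul_pt hx, prim_mul_pt hy]⟩
      neg_mem' := by
        rintro _ ⟨p, rfl⟩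
        refine ⟨p⁻¹, ?_⟩
        have h1 := prim_mul_pt hx p⁻¹ p
        have h2 := prim_mul_pt hy p⁻¹ p
        rw [inv_mul_cancel, prim_one_pt hx, eq_comm, add_eq_zero_iff_eq_neg] at h1
        rw [inv_mul_cancel, prim_one_pt hy, eq_comm, add_eq_zero_iff_eq_neg] at h2
        funext i
        fin_cases i <;> simp [v, h1, h2] }
  obtain ⟨f₀, hf₀, hf₀0⟩ : ∃ f : MvPolynomial (Fin 2) k, MvPolynomial.aeval ![x, y] f = 0 ∧ f ≠ 0 := by
    by_contra hne
    have hind : AlgebraicIndependent k (![x, y] : Fin 2 → A) := algebraicIndependent_iff.2 fun f hf => by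
      by_contra hf0
      exact hne ⟨f, hf, hf0⟩
    obtain ⟨n, hn, htr⟩ := VarDim.exists_dim_eq_trdeg k A
    have h2 := hind.lift_cardinalMk_le_trdeg
    rw [htr, Cardinal.mk_fin, Cardinal.lift_natCast, Cardinal.lift_natCast] at h2
    have h3 : (n : WithBot ℕ∞) = ((1 : ℕ) : WithBot ℕ∞) := by rw [← hn, hd.dim, Nat.cast_one]
    have h4 : n = 1 := by exact_mod_cast h3
    rw [h4] at h2
    exact absurd (show (2 : ℕ) ≤ 1 by exact_mod_cast h2) (by omega)
  obtain ⟨g, g', hg, hg', hne, hH⟩ := exists_addFun_rel H hf₀0 (by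
    rintro _ ⟨p, rfl⟩
    have h1 := congrArg p.ofConv hf₀
    rw [map_zero, MvPolynomial.comp_aeval_apply, MvPolynomial.aeval_eq_eval] at h1
    rw [← h1, show v p = fun i => p.ofConv (![x, y] i) from funext fun i => by fin_cases i <;> simp [v]]
    )
  have hrel : Polynomial.aeval x g + Polynomial.aeval y g' = 0 := ext_pts (k := k) fun p => by
    rw [map_add, eval_aeval, eval_aeval, map_zero]
    exact hH (v p) ⟨p, rfl⟩
  refine exists_common_of_rel hd q _ g g' hg hg' ?_ ?_ le_rfl x y hx hy hrel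
  · intro h0
    rw [h0, map_zero, zero_add] at hrel
    exact hy0 (prim_aeval_eq_zero hy (hne.resolve_left (not_not.2 h0)) hrel)
  · intro h0
    rw [h0, map_zero, add_zero] at hrel
    exact hx0 (prim_aeval_eq_zero hx (hne.resolve_right (not_not.2 h0)) hrel)

end Groth.Agent.DimOne
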