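import Groth.Agent.DimOne.Comm
import Groth.Agent.UniPrim.TrigSep
import Groth.Agent.ComodLib.PrimCriteria
import Groth.Agent.VarDim.Basic
import Groth.Agent.S7948
import Mathlib.RingTheory.AlgebraicIndependent.TranscendenceBasis
import Mathlib.LinearAlgebra.FreeModule.PID

/-!
# A connected group of dimension one with a character is the multiplicative group
-/

set_option autoImplicit false

universe u

open TensorProduct WithConv

noncomputable section

namespace Groth.Agent.DimOne

open Groth.Agent.ComodLib

variable {k : Type u} [Field k] {A : Type u} [CommRing A] [HopfAlgebra k A] [Algebra.FiniteType k A]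

theorem IsDimOne.finite_quotient (h : IsDimOne A) {f : A} (hf : f ≠ 0) :
    Module.Finite k (A ⧸ Ideal.span ({f} : Set A)) := by
  haveI := h.isDomain
  haveI : IsNoetherianRing A := Algebra.FiniteType.isNoetherianRing k A
  let I : Ideal A := Ideal.span {f}
  haveI : Ring.KrullDimLE 0 (A ⧸ I) := Ring.krullDimLE_zero_iff.2 fun P hP => by
    let q := P.comap (Ideal.Quotient.mk I)
    haveI : q.IsPrime := Ideal.comap_isPrime _ _
    suffices q.IsMaximal by
      have h2 := (Ideal.map_eq_top_or_isMaximal_of_surjective (Ideal.Quotient.mk I) Ideal.Quotient.mk_surjective this)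
      rw [Ideal.map_comap_of_surjective _ Ideal.Quotient.mk_surjective] at h2
      exact h2.resolve_left hP.ne_top
    by_contra hmax
    obtain ⟨m, hm, hqm⟩ := Ideal.exists_le_maximal q (Ideal.IsPrime.ne_top ‹_›)
    haveI := hm.isPrime
    have hlt : q < m := lt_of_le_of_ne hqm fun e => hmax (e ▸ hm)
    have hfq : f ∈ q := by
      show Ideal.Quotient.mk I f ∈ P
      rw [Ideal.Quotient.eq_zero_iff_mem.2 (Ideal.mem_span_singleton_self f)]; exact P.zero_mem
    have hq0 : (⊥ : Ideal A) < q := bot_lt_iff_ne_bot.2 fun e => hf (by rwa [e, Ideal.mem_bot] at hfq)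
    let c : LTSeries (PrimeSpectrum A) :=
      (((RelSeries.singleton _ (⟨⊥, Ideal.isPrime_bot⟩ : PrimeSpectrum A)).snoc ⟨q, ‹_›⟩ hq0).snoc ⟨m, hm.isPrime⟩
        (by rw [RelSeries.last_snoc]; exact hlt))
    have h2 : ((2 : ℕ) : WithBot ℕ∞) ≤ ringKrullDim A := Order.LTSeries.length_le_krullDim c
    rw [h.dim] at h2
    norm_cast at h2
  haveI : IsArtinianRing (A ⧸ I) := isArtinianRing_iff_krullDimLE_zero.mpr inferInstance
  exact Module.finite_iff_isArtinianRing k (A ⧸ I) |>.2 inferInstance

omit [Algebra.FiniteType k A] in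
theorem finite_quotient_of_le {I J : Ideal A} (hIJ : I ≤ J) [Module.Finite k (A ⧸ I)] : Module.Finite k (A ⧸ J) :=
  Module.Finite.of_surjective (Ideal.Quotient.factorₐ k hIJ).toLinearMap (Ideal.Quotient.factor_surjective hIJ)

variable [IsAlgClosed k]

/-- Group-like elements of finite order are trivial. -/
theorem IsDimOne.groupLike_eq_one (h : IsDimOne A) {g : A} (hg : IsGroupLikeElem k g) {n : ℕ} (hn : 0 < n)
    (hgn : g ^ n = 1) : g = 1 := by
  haveI := h.isDomain
  have hint : IsIntegral k g := ⟨Polynomial.X ^ n - 1, Polynomial.monic_X_pow_sub_C (1 : k) hn.ne' |> (by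
    simpa using ·), by simp [hgn]⟩
  have hdeg : (minpoly k g).degree = 1 := IsAlgClosed.degree_eq_one_of_irreducible k (minpoly.irreducible hint)
  obtain ⟨c, hc⟩ : g ∈ (algebraMap k A).range := minpoly.mem_range_of_degree_eq_one k g hdeg
  have h1 := hg.counit_eq_one
  rw [← hc, Algebra.algebraMap_eq_smul_one, map_smul, Bialgebra.counit_one, smul_eq_mul, mul_one] at h1
  rw [← hc, h1, map_one]

theorem convPow_groupLike {B : Type u} [CommRing B] [Algebra k B] (f : WithConv (A →ₐ[k] B)) {g : A}
    (hg : IsGroupLikeElem k g) (n : ℕ) : (f ^ n).ofConv g = f.ofConv g ^ n := by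
  induction n with
  | zero =>
    rw [pow_zero, pow_zero]
    show (1 : WithConv (A →ₐ[k] B)) g = 1
    rw [AlgHom.convOne_apply, hg.counit_eq_one, map_one]
  | succ n ih =>
    rw [pow_succ, pow_succ]
    show (f ^ n * f) g = _
    rw [AlgHom.convMul_apply, hg.comul_eq_tmul_self]
    simp [ih]

theorem IsDimOne.isDiagonalizable (h : IsDimOne A) {g₀ : A} (hg₀ : IsGroupLikeElem k g₀) (hne : g₀ ≠ 1) :
    HopfRep.IsDiagonalizable k A := by
  classical
  haveI := h.isDomain
  haveI : Coalgebra.IsCocomm k A := h.isCocomm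
  obtain ⟨B, _, _, ψ, J, _, hψ, hB, hJ, hU⟩ :=
    UniPrim.exists_unipotent_kernel (k := k) (A := A) (PrimDiag.isTrigonalizable_of_isCocomm)
  haveI : Algebra.FiniteType k B := UniPrim.finiteType_of_injective ψ hψ
  have hgl : ∀ g : A, IsGroupLikeElem k g → g - 1 ∈ J := by
    have hU' := CoradFil.exh_of_isUnipotent hU
    intro g hg
    have hg' : IsGroupLikeElem k (Ideal.Quotient.mk J g) :=
      hg.map (Bialgebra.Quotient.mkBialgHom (R := k) J)
    have h1 : IsGroupLikeElem k (1 : A ⧸ J) := IsGroupLikeElem.one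
    rw [← Ideal.Quotient.eq_zero_iff_mem, map_sub, map_one, sub_eq_zero]
    by_contra hne'
    haveI : Nontrivial (A ⧸ J) := ⟨_, _, hne'⟩
    haveI : HopfRep.IsUnipotent k (A ⧸ J) → True := fun _ => trivial
    have key : ∀ r, ∀ x ∈ CoradFil.wedge (Submodule.span k {(1 : A ⧸ J)}) r, IsGroupLikeElem k x → x = 1 := by
      intro r
      induction r with
      | zero =>
        intro x hx hxg
        obtain ⟨c, rfl⟩ := Submodule.mem_span_singleton.1 hx
        have := hxg.counit_eq_one
        rw [map_smul, Bialgebra.counit_one, smul_eq_mul, mul_one] at this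
        rw [this, one_smul]
      | succ r ih =>
        intro x hx hxg
        by_contra hx1
        have hxn : x ∉ CoradFil.wedge (Submodule.span k {(1 : A ⧸ J)}) r := fun hx' => hx1 (ih x hx' hxg)
        have hx' : Coalgebra.comul (R := k) x ∈
            LinearMap.range ((CoradFil.wedge (Submodule.span k {(1 : A ⧸ J)}) r).subtype.rTensor (A ⧸ J)) ⊔
              LinearMap.range ((Submodule.span k {(1 : A ⧸ J)}).subtype.lTensor (A ⧸ J)) := hx
        obtain ⟨φ, hφx, hφ⟩ := Submodule.exists_dual_map_eq_bot_of_notMem hxn inferInstance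
        have hx1' : x ∉ Submodule.span k {(1 : A ⧸ J)} := fun hm => hxn
          (CoradFil.wedge_one_mono (Nat.zero_le r) hm)
        obtain ⟨φ', hφ'x, hφ'⟩ := Submodule.exists_dual_map_eq_bot_of_notMem hx1' inferInstance
        have h0 : LinearMap.mul' k k (TensorProduct.map φ φ' (Coalgebra.comul (R := k) x)) = 0 := by
          obtain ⟨p, ⟨p', rfl⟩, q, ⟨q', rfl⟩, hpq⟩ := Submodule.mem_sup.1 hx'
          rw [← hpq, map_add, map_add]
          have z1 : ∀ w ∈ CoradFil.wedge (Submodule.span k {(1 : A ⧸ J)}) r, φ w = 0 := fun w hw => by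
            have := Submodule.mem_map_of_mem (f := φ) hw
            rwa [hφ, Submodule.mem_bot] at this
          have z2 : ∀ w ∈ Submodule.span k {(1 : A ⧸ J)}, φ' w = 0 := fun w hw => by
            have := Submodule.mem_map_of_mem (f := φ') hw
            rwa [hφ', Submodule.mem_bot] at this
          clear hpq
          have e1 : LinearMap.mul' k k (TensorProduct.map φ φ' ((CoradFil.wedge (Submodule.span k {(1 : A ⧸ J)}) r).subtype.rTensor (A ⧸ J) p')) = 0 := by
            induction p' using TensorProduct.induction_on with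
            | zero => simp
            | tmul a b => simp [z1 a a.2]
            | add a b ha hb => simp only [map_add, ha, hb, add_zero]
          have e2 : LinearMap.mul' k k (TensorProduct.map φ φ' ((Submodule.span k {(1 : A ⧸ J)}).subtype.lTensor (A ⧸ J) q')) = 0 := by
            induction q' using TensorProduct.induction_on with
            | zero => simp
            | tmul a b => simp [z2 b b.2]
            | add a b ha hb => simp only [map_add, ha, hb, add_zero]
          rw [e1, e2, add_zero]
        rw [hxg.comul_eq_tmul_self, TensorProduct.map_tmul, LinearMap.mul'_apply] at h0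
        exact mul_ne_zero hφx hφ'x h0
    obtain ⟨r, hr⟩ := hU' (Ideal.Quotient.mk J g)
    exact hne' (key r _ hr hg')
  have hJne : g₀ - 1 ∈ J := hgl g₀ hg₀
  haveI hfin : Module.Finite k (A ⧸ J) := by
    haveI := h.finite_quotient (k := k) (f := g₀ - 1) (sub_ne_zero.2 hne)
    exact finite_quotient_of_le (I := Ideal.span {g₀ - 1}) (Ideal.span_le.2 (Set.singleton_subset_iff.2 hJne))
  let q := Module.finrank k (A ⧸ J)
  haveI : Nontrivial (A ⧸ J) := (Bialgebra.counitAlgHom k (A ⧸ J)).toRingHom.domain_nontrivial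
  have hq : 0 < q := Module.finrank_pos
  let Φc : WithConv (A →ₐc[k] A) := toConv (BialgHom.id k A) ^ q
  let Φ : A →ₐc[k] A := Φc.ofConv
  have hΦ : toConv (Φ : A →ₐ[k] A) = toConv (AlgHom.id k A) ^ q :=
    BialgHom.toAlgHom_convPow (toConv (BialgHom.id k A)) q
  let mkJ : A →ₐc[k] A ⧸ J := Bialgebra.Quotient.mkBialgHom J
  have hmk : ∀ a, mkJ (Φ a) = algebraMap k (A ⧸ J) (Coalgebra.counit (R := k) a) := by
    have h1 : toConv (((mkJ : A →ₐ[k] A ⧸ J)).comp (Φ : A →ₐ[k] A)) = 1 := by
      have h2 : toConv (AlgHom.id k (A ⧸ J)) ^ q = 1 := Groth.Agent.S7948.result k (A ⧸ J) q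
        (fun p => by rw [Module.rankAtStalk_eq_finrank_of_free]; rfl) (A ⧸ J) (AlgHom.id k (A ⧸ J))
      have h3 : toConv (((mkJ : A →ₐ[k] A ⧸ J)).comp (Φ : A →ₐ[k] A)) = toConv (mkJ : A →ₐ[k] A ⧸ J) ^ q := by
        rw [show (Φ : A →ₐ[k] A) = (toConv (AlgHom.id k A) ^ q).ofConv from congrArg WithConv.ofConv hΦ]
        exact map_pow (LieKol.push (A := A) (mkJ : A →ₐ[k] A ⧸ J)) _ q
      have h4 : ∀ n, toConv (((toConv (AlgHom.id k (A ⧸ J)) ^ n).ofConv).comp (mkJ : A →ₐ[k] A ⧸ J)) =
          toConv (mkJ : A →ₐ[k] A ⧸ J) ^ n := by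
        intro n
        induction n with
        | zero =>
          rw [pow_zero, pow_zero]
          refine WithConv.ext (AlgHom.ext fun a => ?_)
          show (1 : WithConv (A ⧸ J →ₐ[k] A ⧸ J)) (mkJ a) = (1 : WithConv (A →ₐ[k] A ⧸ J)) a
          rw [AlgHom.convOne_apply, AlgHom.convOne_apply, CoalgHomClass.counit_comp_apply]
        | succ n ih =>
          rw [pow_succ, pow_succ, AlgHom.convMul_comp_bialgHom_distrib, ← ih]
          rfl
      rw [h3, ← h4, h2]
      refine WithConv.ext (AlgHom.ext fun a => ?_)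
      show (1 : WithConv (A ⧸ J →ₐ[k] A ⧸ J)) (mkJ a) = (1 : WithConv (A →ₐ[k] A ⧸ J)) a
      rw [AlgHom.convOne_apply, AlgHom.convOne_apply, CoalgHomClass.counit_comp_apply]
    intro a
    have := AlgHom.congr_fun (congrArg WithConv.ofConv h1) a
    exact this.trans (AlgHom.convOne_apply a)
  have hrange : ∀ a, Φ a ∈ Set.range ψ := by
    intro a
    refine UniPrim.mem_range_of_comul_sub_mem ψ hψ (Φ a) ?_
    rw [← hJ, ← CoalgHomClass.map_comp_comul_apply Φ a]
    let p : A →ₗ[k] A := LinearMap.id - (Algebra.linearMap k A) ∘ₗ Coalgebra.counit (R := k)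
    have hp : ∀ x, p (Φ x) ∈ J := fun x => by
      rw [← Ideal.Quotient.eq_zero_iff_mem]
      show Ideal.Quotient.mk J (Φ x - algebraMap k A (Coalgebra.counit (R := k) (Φ x))) = 0
      rw [map_sub, sub_eq_zero, CoalgHomClass.counit_comp_apply]
      exact hmk x
    have hpΔ : p.lTensor A (Coalgebra.comul (R := k) (Φ a)) = Coalgebra.comul (R := k) (Φ a) - Φ a ⊗ₜ[k] 1 := by
      rw [LinearMap.lTensor_sub, LinearMap.sub_apply, LinearMap.lTensor_id, LinearMap.id_apply,
        LinearMap.lTensor_comp, LinearMap.comp_apply, Coalgebra.lTensor_counit_comul]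
      simp
    rw [CoalgHomClass.map_comp_comul_apply Φ a, ← hpΔ, ← CoalgHomClass.map_comp_comul_apply Φ a]
    induction Coalgebra.comul (R := k) a using TensorProduct.induction_on with
    | zero => rw [map_zero, map_zero]; exact Submodule.zero_mem _
    | add x y hx hy => rw [map_add, map_add]; exact Submodule.add_mem _ hx hy
    | tmul x y => exact ⟨Φ x ⊗ₜ[k] ⟨p (Φ y), hp y⟩, rfl⟩
  have hinj : Function.Injective Φ := by
    by_contra hni
    let K := RingHom.ker (Φ : A →ₐ[k] A)
    haveI : K.IsPrime := RingHom.ker_isPrime _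
    have hK : K ≠ ⊥ := fun e => hni (RingHom.injective_iff_ker_eq_bot (Φ : A →ₐ[k] A).toRingHom |>.2 e)
    obtain ⟨f, hfK, hf⟩ := Submodule.exists_mem_ne_zero_of_ne_bot hK
    haveI := h.finite_quotient (k := k) hf
    haveI : Module.Finite k (A ⧸ K) :=
      finite_quotient_of_le (I := Ideal.span {f}) (Ideal.span_le.2 (Set.singleton_subset_iff.2 hfK))
    haveI : IsArtinianRing (A ⧸ K) := isArtinian_of_tower k inferInstance
    have hmax : K.IsMaximal := Ideal.Quotient.maximal_of_isField _ (IsArtinianRing.isField_of_isDomain _)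
    have hle : K ≤ RingHom.ker (Bialgebra.counitAlgHom k A) := fun x hx => by
      show Coalgebra.counit (R := k) x = 0
      rw [← CoalgHomClass.counit_comp_apply Φ x, show Φ x = 0 from hx, map_zero]
    have hKε := hmax.eq_of_le (RingHom.ker_ne_top _) hle
    have hg1 : Φ g₀ = 1 := by
      rw [← sub_eq_zero, ← map_one Φ, ← map_sub]
      show g₀ - 1 ∈ K
      rw [hKε, RingHom.mem_ker, map_sub, map_one, sub_eq_zero]
      exact hg₀.counit_eq_one
    have hpow : Φ g₀ = g₀ ^ q := by
      have := congrArg (fun f : WithConv (A →ₐ[k] A) => f.ofConv g₀) hΦ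
      exact this.trans (convPow_groupLike _ hg₀ q)
    exact hne (h.groupLike_eq_one hg₀ hq (hpow ▸ hg1))
  show Submodule.span k {g : A | IsGroupLikeElem k g} = ⊤
  refine PrimDiag.span_groupLike_eq_top fun f hf => hinj ?_
  obtain ⟨b, hb⟩ := hrange f
  rw [map_zero, ← hb]
  have hΔ : Coalgebra.comul (R := k) b = b ⊗ₜ[k] (1 : B) + (1 : B) ⊗ₜ[k] b := by
    refine TensorProduct.map_injective_of_flat_flat (ψ : B →ₗ[k] A) (ψ : B →ₗ[k] A) hψ hψ ?_
    refine (CoalgHomClass.map_comp_comul_apply ψ b).trans ?_
    rw [hb, ← CoalgHomClass.map_comp_comul_apply Φ f, show Coalgebra.comul (R := k) f = _ from hf, map_add, map_add,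
      TensorProduct.map_tmul, TensorProduct.map_tmul, TensorProduct.map_tmul, TensorProduct.map_tmul]
    simp [hb]
  rw [PrimDiag.noPrim_of_span hB b hΔ, map_zero]

/-- A connected group of dimension one with a nontrivial character is `𝔾ₘ`. -/
theorem IsDimOne.nonempty_Gm (h : IsDimOne A) {g₀ : A} (hg₀ : IsGroupLikeElem k g₀) (hne : g₀ ≠ 1) :
    Nonempty (A ≃ₐc[k] MonoidAlgebra k (Multiplicative ℤ)) := by
  classical
  haveI := h.isDomain
  obtain ⟨M, _, ⟨E⟩⟩ := Groth.Agent.S16065.isDiag_of_isDiagonalizable (h.isDiagonalizable hg₀ hne)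
  haveI : Algebra.FiniteType k (MonoidAlgebra k M) := Algebra.FiniteType.equiv (R := k) (A := A) inferInstance (E : A ≃ₐ[k] MonoidAlgebra k M)
  haveI : Monoid.FG M := (MonoidAlgebra.finiteType_iff_fg (R := k)).mp inferInstance
  haveI : Group.FG M := Group.fg_iff_monoid_fg.mpr inferInstance
  haveI : Module.Finite ℤ (Additive M) := Module.Finite.iff_addGroup_fg.mpr (GroupFG.iff_add_fg.mp inferInstance)
  haveI : Module.IsTorsionFree ℤ (Additive M) := Module.IsTorsionFree.of_smul_eq_zero fun n m hnm => by
    by_contra hne'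
    push Not at hne'
    obtain ⟨hn, hm⟩ := hne'
    have hz : (Additive.toMul m) ^ n = 1 := hnm
    have hna : (Additive.toMul m) ^ n.natAbs = 1 := by
      rcases Int.natAbs_eq n with e | e
      · rw [e, zpow_natCast] at hz; exact hz
      · rw [e, zpow_neg, zpow_natCast, inv_eq_one] at hz; exact hz
    have hgl : IsGroupLikeElem k (E.symm (MonoidAlgebra.single (Additive.toMul m) 1)) :=
      (MultTypeLib.isGroupLike_single _).map (E.symm : MonoidAlgebra k M →ₐc[k] A)
    have h1 := h.groupLike_eq_one hgl (Int.natAbs_pos.2 hn) (by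
      rw [← map_pow, MonoidAlgebra.single_pow, hna, one_pow, ← MonoidAlgebra.one_def, map_one])
    have h2 := congrArg E h1
    rw [E.apply_symm_apply, map_one, MonoidAlgebra.one_def] at h2
    exact hm (congrArg Additive.ofMul (MultTypeLib.single_inj (M := M) h2))
  haveI : Module.Free ℤ (Additive M) := Module.free_of_finite_type_torsion_free'
  let b := Module.finBasis ℤ (Additive M)
  let r := Module.finrank ℤ (Additive M)
  have hr0 : r ≠ 0 := by
    intro hr
    have htriv : ∀ m : M, m = 1 := fun m => by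
      have hsub : IsEmpty (Fin r) := by rw [hr]; infer_instance
      have h1 := b.sum_repr (Additive.ofMul m)
      rw [Finset.univ_eq_empty, Finset.sum_empty] at h1
      exact congrArg Additive.toMul h1.symm
    refine hne ?_
    obtain ⟨m, hm⟩ := MultTypeLib.exists_single_of_field (hg₀.map (E : A →ₐc[k] MonoidAlgebra k M))
    have hEg : E g₀ = MonoidAlgebra.single m 1 := hm.symm
    rw [← E.symm_apply_apply g₀, hEg, htriv m, ← MonoidAlgebra.one_def, map_one]
  have hr1 : r ≤ 1 := by
    let t : Fin r → A := fun i => E.symm (MonoidAlgebra.single (Additive.toMul (b i)) 1)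
    have hind : AlgebraicIndependent k t := by
      show Function.Injective (MvPolynomial.aeval t : MvPolynomial (Fin r) k →ₐ[k] A)
      let χ : Multiplicative (Fin r →₀ ℕ) → M := fun d =>
        Additive.toMul (b.repr.symm (Finsupp.mapRange (fun n : ℕ => (n : ℤ)) rfl (Multiplicative.toAdd d)))
      have hχ : Function.Injective χ := by
        intro d d' hdd
        have h1 := b.repr.symm.injective (Additive.toMul.injective hdd)
        exact Multiplicative.toAdd.injective (Finsupp.mapRange_injective _ rfl Nat.cast_injective h1)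
      have hmon : ∀ (d : Fin r →₀ ℕ) (c : k), E (MvPolynomial.aeval t (MvPolynomial.monomial d c)) =
          MonoidAlgebra.single (χ (Multiplicative.ofAdd d)) c := by
        intro d c
        rw [MvPolynomial.aeval_monomial, ← Algebra.smul_def, map_smul, Finsupp.prod_fintype _ _ (fun i => pow_zero _), map_prod]
        simp only [t, map_pow, E.apply_symm_apply, MonoidAlgebra.single_pow, one_pow]
        have hprod : ∀ (s : Finset (Fin r)) (f : Fin r → M),
            ∏ i ∈ s, MonoidAlgebra.single (f i) (1 : k) = MonoidAlgebra.single (∏ i ∈ s, f i) 1 := by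
          intro s f
          induction s using Finset.induction with
          | empty => simp [MonoidAlgebra.one_def]
          | insert a s has ih => rw [Finset.prod_insert has, Finset.prod_insert has, ih, MonoidAlgebra.single_mul_single, one_mul]
        rw [hprod, MonoidAlgebra.smul_single', mul_one]
        congr 1
        apply Additive.ofMul.injective
        rw [ofMul_prod]
        simp only [χ, toAdd_ofAdd, ofMul_pow, ofMul_toMul, b.repr_symm_apply]
        rw [Finsupp.linearCombination_apply, Finsupp.sum_fintype (h := fun i => zero_smul ℤ (b i))]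
        exact Finset.sum_congr rfl fun i _ => by simp
      intro P P' hPP
      have h1 := congrArg E hPP
      have hE : ∀ P : MvPolynomial (Fin r) k, ∀ d, (E (MvPolynomial.aeval t P)).coeff (χ (Multiplicative.ofAdd d)) =
          MvPolynomial.coeff d P := by
        intro P d
        induction P using MvPolynomial.induction_on' with
        | add p q hp hq => rw [map_add, map_add, MonoidAlgebra.coeff_add, Finsupp.add_apply, hp, hq, MvPolynomial.coeff_add]
        | monomial e c =>
          refine (congrArg (fun z => MonoidAlgebra.coeff z (χ (Multiplicative.ofAdd d))) (hmon e c)).trans ?_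
          simp [Finsupp.single_apply, hχ.eq_iff, MvPolynomial.coeff_monomial]
      ext d
      rw [← hE P d, ← hE P' d, h1]
    obtain ⟨n, hn, htr⟩ := VarDim.exists_dim_eq_trdeg k A
    have h2 := hind.lift_cardinalMk_le_trdeg
    rw [htr, Cardinal.mk_fin, Cardinal.lift_natCast, Cardinal.lift_natCast] at h2
    have h3 : (n : WithBot ℕ∞) = ((1 : ℕ) : WithBot ℕ∞) := by rw [← hn, h.dim, Nat.cast_one]
    have h4 : n = 1 := by exact_mod_cast h3
    rw [h4] at h2
    exact_mod_cast h2
  have hr : r = 1 := by omega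
  let e1 : Additive M ≃ₗ[ℤ] ℤ := (b.reindex (finCongr hr)).repr.trans (Finsupp.LinearEquiv.finsuppUnique ℤ ℤ (Fin 1))
  let e2 : M ≃* Multiplicative ℤ := (MulEquiv.refl M).trans (AddEquiv.toMultiplicativeRight e1.toAddEquiv)
  exact ⟨E.trans (BialgEquiv.ofBijective (MonoidAlgebra.mapDomainBialgHom k e2.toMonoidHom) (by
    refine ⟨MonoidAlgebra.mapDomain_injective e2.injective, ?_⟩
    intro y
    refine ⟨MonoidAlgebra.mapDomainBialgHom k e2.symm.toMonoidHom y, ?_⟩
    induction y using MonoidAlgebra.induction_linear with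
    | zero => simp
    | add a b ha hb => rw [map_add, map_add, ha, hb]
    | single m c => simp))⟩

end Groth.Agent.DimOne
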