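import Groth.Agent.DimOne.Ga
import Groth.Agent.DimOne.Torus
import Groth.Agent.CoradFil.Points

/-!
# Identification of a unipotent group of dimension one with the additive group
-/

set_option autoImplicit false

universe u

open TensorProduct WithConv

noncomputable section

namespace Groth.Agent.DimOne

open Groth.Agent.ComodLib Groth.Agent.LieKol Groth.Agent.GaChar

variable {k : Type u} [Field k] {A : Type u} [CommRing A] [HopfAlgebra k A] [Algebra.FiniteType k A]

theorem sum_choose_div_eval {p : ℕ} [hp : Fact p.Prime] [CharP k p] :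
    ∑ j ∈ Finset.range p, ∑ l ∈ Finset.Ioo 0 p, ((p.choose l / p : ℕ) : k) * (j : k) ^ l = -1 := by
  have hp0 := hp.out.pos
  have key : ∀ j : ℕ, (j + 1) ^ p = 1 + j ^ p + p * ∑ l ∈ Finset.Ioo 0 p, (p.choose l / p) * j ^ l := by
    intro j
    rw [add_pow, Finset.sum_range_succ, Finset.mul_sum]
    have hins : Finset.range p = insert 0 (Finset.Ioo 0 p) := by
      ext l; simp; omega
    rw [hins, Finset.sum_insert (by simp)]
    simp only [one_pow, mul_one, Nat.choose_zero_right, pow_zero, Nat.choose_self, Nat.cast_one, Nat.cast_id]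
    rw [Finset.sum_congr rfl fun l hl => show j ^ l * p.choose l = p * (p.choose l / p * j ^ l) by
      rw [Finset.mem_Ioo] at hl
      rw [← mul_assoc, Nat.mul_div_cancel' (hp.out.dvd_choose_self (by omega) hl.2), mul_comm]]
    ring
  have h1 := Finset.sum_congr rfl (fun j (_ : j ∈ Finset.range p) => key j)
  rw [Finset.sum_add_distrib, Finset.sum_add_distrib, Finset.sum_const, Finset.card_range, smul_eq_mul, mul_one,
    ← Finset.mul_sum] at h1
  set K := ∑ j ∈ Finset.range p, ∑ l ∈ Finset.Ioo 0 p, p.choose l / p * j ^ l with hK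
  have h2 : ∑ j ∈ Finset.range p, (j + 1) ^ p = ∑ j ∈ Finset.range p, j ^ p + p ^ p := by
    have e := Finset.sum_range_succ' (fun j : ℕ => j ^ p) p
    rw [Finset.sum_range_succ, zero_pow hp0.ne', add_zero] at e
    exact e.symm
  have h3 : p * (K + 1) = p * p ^ (p - 1) := by
    rw [← pow_succ', Nat.sub_add_cancel hp0, mul_add, mul_one]
    omega
  have h4 := congrArg (fun n : ℕ => (n : k)) (Nat.eq_of_mul_eq_mul_left hp0 h3)
  simp only [Nat.cast_add, Nat.cast_one, Nat.cast_pow, CharP.cast_eq_zero,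
    zero_pow (Nat.sub_ne_zero_of_lt hp.out.one_lt)] at h4
  rw [← eq_neg_of_add_eq_zero_left h4, hK]
  simp only [Nat.cast_sum, Nat.cast_mul, Nat.cast_pow]

theorem sum_twS_eval {p : ℕ} [hp : Fact p.Prime] [CharP k p] (m : ℕ) (s : k) :
    ∑ j ∈ Finset.range p, MvPolynomial.eval ![(j : k) * s, s] (twS p m : MvPolynomial (Fin 2) k) =
      -(s ^ p ^ (m + 1)) := by
  haveI : ExpChar k p := .prime hp.out
  have e : ∀ j : ℕ, MvPolynomial.eval ![(j : k) * s, s] (twS p m : MvPolynomial (Fin 2) k) =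
      ∑ l ∈ Finset.Ioo 0 p, ((p.choose l / p : ℕ) : k) * (j : k) ^ l * (s ^ p ^ (m + 1)) := by
    intro j
    rw [twS_eq, MvPolynomial.eval_expand, univS, map_sum]
    refine Finset.sum_congr rfl fun l hl => ?_
    rw [Finset.mem_Ioo] at hl
    simp only [map_mul, map_pow, MvPolynomial.eval_C, MvPolynomial.eval_X, Pi.pow_apply, Matrix.cons_val_zero,
      Matrix.cons_val_one]
    rw [mul_pow, show ((j : k)) ^ p ^ m = (j : k) by
      rw [← iterateFrobenius_def, map_natCast]]
    rw [mul_pow, mul_assoc, mul_assoc, mul_assoc, ← pow_add, Nat.add_sub_cancel' hl.2.le, pow_succ, pow_mul]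
  simp only [e]
  simp only [← Finset.sum_mul]
  rw [sum_choose_div_eval, neg_one_mul]

theorem isCoc_charZero [CharZero k] {F : MvPolynomial (Fin 2) k} (hF : IsCoc F) : ∃ G : Polynomial k, F = cob G := by
  classical
  let G : Polynomial k := Polynomial.C (-MvPolynomial.coeff (pr 0 0) F) +
    ∑ n ∈ Finset.Icc 2 (F.totalDegree + 1), Polynomial.C (MvPolynomial.coeff (pr 1 (n - 1)) F / n) * Polynomial.X ^ n
  have hG : ∀ n, 2 ≤ n → G.coeff n = MvPolynomial.coeff (pr 1 (n - 1)) F / n := by
    intro n hn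
    simp only [G, Polynomial.coeff_add, Polynomial.finsetSum_coeff, Polynomial.coeff_C_mul, Polynomial.coeff_X_pow,
      mul_ite, mul_one, mul_zero, Finset.sum_ite_eq]
    rw [Polynomial.coeff_C_ne_zero (by omega), zero_add]
    split_ifs with h
    · rfl
    · rw [Finset.mem_Icc] at h
      rw [MvPolynomial.coeff_eq_zero_of_totalDegree_lt, zero_div]
      have hs : ((pr 1 (n - 1)).sum fun _ e => e) = 1 + (n - 1) := by
        rw [Finsupp.sum_fintype _ _ (fun _ => rfl), Fin.sum_univ_two]; simp [pr]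
      rw [show (∑ i ∈ (pr 1 (n - 1)).support, (pr 1 (n - 1)) i) = 1 + (n - 1) from hs]
      omega
  have hG0 : G.coeff 0 = -MvPolynomial.coeff (pr 0 0) F := by
    simp only [G, Polynomial.coeff_add, Polynomial.finsetSum_coeff, Polynomial.coeff_C_mul, Polynomial.coeff_X_pow,
      mul_ite, mul_one, mul_zero, Finset.sum_ite_eq, Polynomial.coeff_C_zero]
    simp
  have edge : ∀ {F : MvPolynomial (Fin 2) k}, IsCoc F → ∀ j, 0 < j → MvPolynomial.coeff (pr 0 j) F = 0 := by
    intro F hF j hj
    have h := hF.rel 0 0 j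
    rw [if_pos rfl, if_neg hj.ne', Nat.choose_zero_right, Nat.cast_one, one_mul, Nat.zero_add, Nat.zero_add,
      Nat.choose_zero_right, Nat.cast_one, one_mul, add_zero] at h
    exact add_eq_left.1 h
  refine ⟨G, ?_⟩
  ext d
  rw [eq_pr d]
  obtain ⟨i, hi⟩ : ∃ i, d 0 = i := ⟨_, rfl⟩
  obtain ⟨j, hj⟩ : ∃ j, d 1 = j := ⟨_, rfl⟩
  rw [hi, hj]
  rcases Nat.eq_zero_or_pos i with rfl | hi0
  · rcases Nat.eq_zero_or_pos j with rfl | hj0
    · rw [coeff_cob_zero, hG0, neg_neg]
    · rw [edge hF j hj0, edge (isCoc_cob G) j hj0]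
  rcases Nat.eq_zero_or_pos j with rfl | hj0
  · rw [hF.symm, (isCoc_cob G).symm, edge hF i hi0, edge (isCoc_cob G) i hi0]
  obtain ⟨b, rfl⟩ : ∃ b, i = b + 1 := ⟨i - 1, by omega⟩
  have h := hF.rel 1 b j
  rw [if_neg one_ne_zero, if_neg hj0.ne', add_zero, add_zero, Nat.choose_one_right, add_comm 1 b] at h
  rw [coeff_cob G _ _ hi0 hj0, hG _ (by omega), show b + 1 + j - 1 = b + j by omega]
  have hb : ((b + 1 : ℕ) : k) ≠ 0 := Nat.cast_ne_zero.2 (by omega)
  have hn : ((b + 1 + j : ℕ) : k) ≠ 0 := Nat.cast_ne_zero.2 (by omega)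
  have hch : ((b + j + 1 : ℕ) : k) * ((b + j).choose b : k) = ((b + j + 1).choose (b + 1) : k) * ((b + 1 : ℕ) : k) := by
    exact_mod_cast Nat.add_one_mul_choose_eq (b + j) b
  rw [mul_div_assoc', eq_div_iff hn, show b + 1 + j = b + j + 1 by omega]
  refine mul_left_cancel₀ hb ?_
  linear_combination -((b + j + 1 : ℕ) : k) * h + MvPolynomial.coeff (pr 1 (b + j)) F * hch

variable [IsAlgClosed k]

omit [Algebra.FiniteType k A] in
theorem exh_of_no_groupLike [Coalgebra.IsCocomm k A] (hgl : ∀ g : A, IsGroupLikeElem k g → g = 1) :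
    CoradFil.Exh (Submodule.span k {(1 : A)}) := by
  have h := CoradFil.exh_of_isTrigonalizable (k := k) (B := A) PrimDiag.isTrigonalizable_of_isCocomm
  have e : CoradFil.glSpan k A = Submodule.span k {(1 : A)} :=
    le_antisymm (Submodule.span_mono fun g hg => hgl g hg)
      (Submodule.span_mono fun g hg => hg ▸ IsGroupLikeElem.one)
  rwa [e] at h

theorem IsDimOne.pow_eq_one (hd : IsDimOne A) (hU : CoradFil.Exh (Submodule.span k {(1 : A)})) {p : ℕ}
    [hp : Fact p.Prime] [CharP k p] (g : WithConv (A →ₐ[k] k)) : g ^ p = 1 := by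
  haveI := hd.isDomain
  haveI : Coalgebra.IsCocomm k A := hd.isCocomm
  obtain ⟨N, hN⟩ := CoradFil.exists_cong_eq_bot (K := k) (CoradFil.isBi_one (k := k) (A := A)) hU
  have hkill : ∀ g : WithConv (A →ₐ[k] k), g ^ p ^ N = 1 := by
    intro g
    suffices h : ∀ n, g ^ p ^ n ∈ CoradFil.cong k (CoradFil.isBi_one (k := k) (A := A)) n by
      exact (Subgroup.eq_bot_iff_forall _).1 hN _ (h N)
    intro n
    induction n with
    | zero => exact CoradFil.cong_one_zero _
    | succ n ih =>
      rw [pow_succ, pow_mul]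
      exact CoradFil.pow_mem_cong_succ _ hp.out (CharP.cast_eq_zero k p) ih
  let Φc : WithConv (A →ₐc[k] A) := toConv (BialgHom.id k A) ^ p
  let Φ : A →ₐc[k] A := Φc.ofConv
  have hΦ : toConv (Φ : A →ₐ[k] A) = toConv (AlgHom.id k A) ^ p :=
    BialgHom.toAlgHom_convPow (toConv (BialgHom.id k A)) p
  have hcomp : ∀ (g : WithConv (A →ₐ[k] k)) (a : A), g.ofConv (Φ a) = (g ^ p).ofConv a := by
    intro g a
    have h3 : toConv ((g.ofConv).comp (Φ : A →ₐ[k] A)) = g ^ p := by
      rw [show (Φ : A →ₐ[k] A) = (toConv (AlgHom.id k A) ^ p).ofConv from congrArg WithConv.ofConv hΦ]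
      exact map_pow (LieKol.push (A := A) g.ofConv) _ p
    exact AlgHom.congr_fun (congrArg WithConv.ofConv h3) a
  have hni : ¬ Function.Injective Φ := by
    intro hinj
    have hiter : ∀ (n : ℕ) (g : WithConv (A →ₐ[k] k)) (a : A), g.ofConv (Φ^[n] a) = (g ^ p ^ n).ofConv a := by
      intro n
      induction n with
      | zero => intro g a; rw [Function.iterate_zero_apply, pow_zero, pow_one]
      | succ n ih => intro g a; rw [Function.iterate_succ_apply', hcomp, ih, ← pow_mul, pow_succ']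
    have hconst : ∀ a : A, a = algebraMap k A (Coalgebra.counit (R := k) a) := fun a => (hinj.iterate N) (by
      refine ext_pts (k := k) fun g => ?_
      rw [hiter, hiter, hkill, AlgHom.commutes, one_pt]
      rfl)
    refine hd.infinite_pts (k := k) (Set.Subsingleton.finite fun g _ g' _ => ?_)
    refine WithConv.ext (AlgHom.ext fun a => ?_)
    rw [hconst a, AlgHom.commutes, AlgHom.commutes]
  let K := RingHom.ker (Φ : A →ₐ[k] A)
  haveI : K.IsPrime := RingHom.ker_isPrime _
  have hK : K ≠ ⊥ := fun e => hni (RingHom.injective_iff_ker_eq_bot (Φ : A →ₐ[k] A).toRingHom |>.2 e)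
  obtain ⟨f, hfK, hf⟩ := Submodule.exists_mem_ne_zero_of_ne_bot hK
  refine WithConv.ext (AlgHom.ext fun a => ?_)
  have hKmax : ∀ x : A, Coalgebra.counit (R := k) x = 0 → Φ x = 0 := by
    haveI := hd.finite_quotient (k := k) hf
    haveI : Module.Finite k (A ⧸ K) :=
      finite_quotient_of_le (I := Ideal.span {f}) (Ideal.span_le.2 (Set.singleton_subset_iff.2 hfK))
    haveI : IsArtinianRing (A ⧸ K) := isArtinian_of_tower k inferInstance
    have hmax : K.IsMaximal := Ideal.Quotient.maximal_of_isField _ (IsArtinianRing.isField_of_isDomain _)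
    have hle : K ≤ RingHom.ker (Bialgebra.counitAlgHom k A) := fun x hx => by
      show Coalgebra.counit (R := k) x = 0
      rw [← CoalgHomClass.counit_comp_apply Φ x, show Φ x = 0 from hx, map_zero]
    have hKε := hmax.eq_of_le (RingHom.ker_ne_top _) hle
    intro x hx
    show x ∈ K
    rw [hKε]
    exact hx
  have h0 := congrArg g.ofConv (hKmax (a - algebraMap k A (Coalgebra.counit (R := k) a)) (by simp))
  rw [map_zero, hcomp, map_sub, AlgHom.commutes, sub_eq_zero] at h0
  rw [h0, one_pt]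
  rfl

end Groth.Agent.DimOne
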